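import Groth.Agent.RedR1.Invert

/-!
# Homomorphisms between rank-one systems
-/

set_option autoImplicit false
set_option linter.style.haveILetI false

universe u

open CategoryTheory MonoidalCategory CartesianMonoidalCategory AlgebraicGeometry
open scoped CategoryTheory.MonObj CategoryTheory.GrpObj
open Groth.Agent.BGaNotS (gaPt gaFn_gaPt gaPt_ext gaFn_comp gaFn_mul gaFn_one)

noncomputable section

namespace Groth.Agent.RedR1

variable {S : Scheme.{u}} {G T : Over S} [GrpObj G] [GrpObj T] {i : T ⟶ G} {α : T ⟶ Red.Gm S}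
  {pp pm : Red.Ga S ⟶ G} {av : Red.Gm S ⟶ T}

theorem Calc.w_conj_P_self' {G R : Type*} [Group G] [CommRing R] (C : Calc G R)
    (hw : ∀ (x : Rˣ) (b : R), C.w x * C.P b * (C.w x)⁻¹ = C.M (-(b * ↑x⁻¹ * ↑x⁻¹))) (x : Rˣ) :
    C.w x * C.P x * (C.w x)⁻¹ = (C.P x)⁻¹ * C.w x * (C.P x)⁻¹ := by
  rw [C.w_conj_P_self hw, Calc.w]
  group

/-- Uniqueness of the Weyl element with a given conjugation. -/
theorem Sys.torus_eq_one (s : Sys i α pp pm av) [IsOpenImmersion (cellMap i pp pm).left] {X : Over S}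
    (t : X ⟶ T) (a : (Γ(X.left, ⊤))ˣ)
    (h : ((t ≫ i) * (s.calc' X).w a) * (s.calc' X).P a * ((t ≫ i) * (s.calc' X).w a)⁻¹ =
      ((s.calc' X).P a)⁻¹ * ((t ≫ i) * (s.calc' X).w a) * ((s.calc' X).P a)⁻¹) :
    (t ≫ i) = 1 := by
  haveI := s.hi; haveI := s.hpph; haveI := s.hpmh
  set C := s.calc' X
  set A : Γ(X.left, ⊤) := (rt α t : Γ(X.left, ⊤))
  set Ai : Γ(X.left, ⊤) := (↑(rt α t)⁻¹ : Γ(X.left, ⊤))
  set x : Γ(X.left, ⊤) := (a : Γ(X.left, ⊤))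
  set z : Γ(X.left, ⊤) := (↑a⁻¹ : Γ(X.left, ⊤))
  have hM : ∀ b, (t ≫ i) * C.M b * (t ≫ i)⁻¹ = C.M (Ai * b) := fun b => s.conj_M t b
  have hP : ∀ b, (t ≫ i) * C.P b * (t ≫ i)⁻¹ = C.P (A * b) := fun b => s.conj_P t b
  have hl : (t ≫ i) * C.w a * C.P x * ((t ≫ i) * C.w a)⁻¹ = C.M (-(Ai * z)) := by
    calc (t ≫ i) * C.w a * C.P x * ((t ≫ i) * C.w a)⁻¹
        = (t ≫ i) * (C.w a * C.P x * (C.w a)⁻¹) * (t ≫ i)⁻¹ := by group
      _ = _ := by rw [C.w_conj_P_self (s.w_conj_P X) a, hM, mul_neg]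
  have hr : (C.P x)⁻¹ * ((t ≫ i) * C.w a) * (C.P x)⁻¹ = C.P ((A - 1) * x) * C.M (-(Ai * z)) * (t ≫ i) := by
    calc (C.P x)⁻¹ * ((t ≫ i) * C.w a) * (C.P x)⁻¹
        = (C.P x)⁻¹ * ((t ≫ i) * C.P x * (t ≫ i)⁻¹) * ((t ≫ i) * C.M (-z) * (t ≫ i)⁻¹) * (t ≫ i) := by
          simp only [Calc.w, x, z]; group
      _ = _ := by
          rw [hP, hM, mul_neg, show (A - 1) * x = -x + A * x by ring, C.P_add, C.P_neg]
  rw [hl, hr] at h
  have h3 : C.M (Ai * z) * C.P ((1 - A) * x) * C.M (-(Ai * z)) = t ≫ i := by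
    rw [show (1 - A) * x = -((A - 1) * x) by ring, C.P_neg]
    conv_lhs => rw [h]
    rw [C.M_neg]
    group
  have h4 : C.P ((1 - A) * x) = C.M (-(Ai * z)) * ((t ≫ i) * C.M (Ai * z)) := by
    rw [← h3, C.M_neg]; group
  have h5 : (t ≫ i) * C.M (Ai * z) = C.M (Ai * (Ai * z)) * (t ≫ i) := by rw [← hM (Ai * z)]; group
  rw [h5, ← mul_assoc, ← C.M_add] at h4
  have h6 := cell_inj (i := i) (pp := pp) (pm := pm) (y := (1 : X ⟶ Red.Ga S)) (t := 1)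
    (x := gaPt ((1 - A) * x)) (y' := gaPt (-(Ai * z) + Ai * (Ai * z))) (t' := t) (x' := 1)
    (by rw [MonObj.one_comp, MonObj.one_comp, MonObj.one_comp, one_mul, one_mul, mul_one]; exact h4)
  rw [← h6.2.1, MonObj.one_comp]

section hom

variable {G' T' : Over S} [GrpObj G'] [GrpObj T'] {i' : T' ⟶ G'} {α' : T' ⟶ Red.Gm S}
  {pp' pm' : Red.Ga S ⟶ G'} {av' : Red.Gm S ⟶ T'}

theorem pow_neg_of_additive {R : Type*} [CommRing R] {q : ℕ} (hq0 : 0 < q)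
    (hq : ∀ a b : R, (a + b) ^ q = a ^ q + b ^ q) (a : R) : (-a) ^ q = -(a ^ q) := by
  have h := hq a (-a)
  rw [add_neg_cancel, zero_pow hq0.ne'] at h
  linear_combination -h

theorem pow_sub_of_additive {R : Type*} [CommRing R] {q : ℕ} (hq0 : 0 < q)
    (hq : ∀ a b : R, (a + b) ^ q = a ^ q + b ^ q) (a b : R) : (a - b) ^ q = a ^ q - b ^ q := by
  rw [sub_eq_add_neg, hq, pow_neg_of_additive hq0 hq, sub_eq_add_neg]

variable (s : Sys i α pp pm av) (s' : Sys i' α' pp' pm' av') (f : G ⟶ G') [IsMonHom f] {X : Over S}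
  (c : (Γ(X.left, ⊤))ˣ) {q : ℕ} (hq0 : 0 < q) (hq : ∀ a b : Γ(X.left, ⊤), (a + b) ^ q = a ^ q + b ^ q)
  (hP : ∀ b, (s.calc' X).P b ≫ f = (s'.calc' X).P ((c : Γ(X.left, ⊤)) * b ^ q))

include hq0 hq hP

theorem Sys.hom_M_of_w (hw : (s.calc' X).w 1 ≫ f = (s'.calc' X).w c) (b : Γ(X.left, ⊤)) :
    (s.calc' X).M b ≫ f = (s'.calc' X).M ((↑c⁻¹ : Γ(X.left, ⊤)) * b ^ q) := by
  have h := s.w_conj_P X 1 (-b)
  rw [inv_one, Units.val_one, mul_one, mul_one, neg_neg] at h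
  rw [← h, MonObj.mul_comp, MonObj.mul_comp, GrpObj.inv_comp, hw, hP, s'.w_conj_P]
  congr 1
  rw [pow_neg_of_additive hq0 hq]
  linear_combination ((↑c⁻¹ : Γ(X.left, ⊤)) * b ^ q) * Units.mul_inv c

omit hq0 hq in
theorem Sys.hom_w_of_M (hqn : ∀ a : Γ(X.left, ⊤), (-a) ^ q = -(a ^ q))
    (hM : ∀ b, (s.calc' X).M b ≫ f = (s'.calc' X).M ((↑c⁻¹ : Γ(X.left, ⊤)) * b ^ q)) (a : (Γ(X.left, ⊤))ˣ) :
    (s.calc' X).w a ≫ f = (s'.calc' X).w (c * a ^ q) := by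
  simp only [Calc.w, MonObj.mul_comp, hP, hM]
  rw [hqn, mul_inv_rev, Units.val_mul, Units.val_mul, ← inv_pow, Units.val_pow_eq_pow_val,
    Units.val_pow_eq_pow_val, mul_comm ((↑a⁻¹ : Γ(X.left, ⊤)) ^ q), mul_neg]

theorem Sys.hom_H_of_M (hM : ∀ b, (s.calc' X).M b ≫ f = (s'.calc' X).M ((↑c⁻¹ : Γ(X.left, ⊤)) * b ^ q))
    (v : (Γ(X.left, ⊤))ˣ) : (s.calc' X).H v ≫ f = (s'.calc' X).H (v ^ q) := by
  set C' := s'.calc' X
  rw [(s.calc' X).H_eq_prod v, MonObj.mul_comp, MonObj.mul_comp, MonObj.mul_comp, hM, hM, hP, hP,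
    pow_sub_of_additive hq0 hq, pow_sub_of_additive hq0 hq, pow_neg_of_additive hq0 hq, one_pow, mul_one,
    ← Units.val_pow_eq_pow_val, ← Units.val_pow_eq_pow_val, inv_pow]
  set U := v ^ q
  set ci : Γ(X.left, ⊤) := (↑c⁻¹ : Γ(X.left, ⊤))
  have key := C'.rule (c : Γ(X.left, ⊤)) (ci * ((U : Γ(X.left, ⊤)) - 1)) U (by
    linear_combination -((U : Γ(X.left, ⊤)) - 1) * Units.mul_inv c)
  rw [mul_assoc (C'.M _) (C'.P _), key, mul_neg, C'.P_neg]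
  simp only [← mul_assoc]
  rw [mul_inv_cancel_right, ← C'.M_add]
  rw [show ci * ((↑U⁻¹ : Γ(X.left, ⊤)) - 1) + ci * ((U : Γ(X.left, ⊤)) - 1) * ↑U⁻¹ = 0 by
    linear_combination ci * Units.mul_inv U, C'.M_zero, one_mul]

end hom

end Groth.Agent.RedR1
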