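import Groth.Agent.RedR1.Build
import Groth.Agent.S8478

/-!
# The isomorphism theorem in semisimple rank one
-/

set_option autoImplicit false
set_option linter.style.haveILetI false

universe u

open CategoryTheory MonoidalCategory CartesianMonoidalCategory AlgebraicGeometry
open scoped CategoryTheory.MonObj CategoryTheory.GrpObj
open Groth.Agent.BGaNotS (gaPt gaFn_gaPt gaPt_ext gaFn_comp gaFn_mul gaFn_one)

noncomputable section

namespace Groth.Agent.RedR1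

variable {S : Scheme.{u}}

/-- The endomorphism `x ↦ c x^q` of the additive group. -/
def scale (c : 𝟙_ (Over S) ⟶ Red.Gm S) (q : ℕ) : Red.Ga S ⟶ Red.Ga S :=
  gaPt (Red.gmFn (toUnit (Red.Ga S) ≫ c) * Red.gaFn (𝟙 (Red.Ga S)) ^ q)

theorem gaFn_comp_scale (c : 𝟙_ (Over S) ⟶ Red.Gm S) (q : ℕ) {X : Over S} (x : X ⟶ Red.Ga S) :
    Red.gaFn (x ≫ scale c q) = Red.gmFn (toUnit X ≫ c) * Red.gaFn x ^ q := by
  rw [scale, gaPt_comp, gaFn_gaPt, map_mul, map_pow, ← GmPts.gmFn_comp, ← gaFn_comp, Category.comp_id,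
    ← Category.assoc, toUnit_unique (x ≫ toUnit _) (toUnit X)]

theorem gaPt_comp_scale (c : 𝟙_ (Over S) ⟶ Red.Gm S) (q : ℕ) {X : Over S} (a : Γ(X.left, ⊤)) :
    (gaPt a : X ⟶ Red.Ga S) ≫ scale c q =
      gaPt ((GmPts.unitOfPt (toUnit X ≫ c) : Γ(X.left, ⊤)) * a ^ q) := by
  refine gaPt_ext ?_
  rw [gaFn_comp_scale, gaFn_gaPt, gaFn_gaPt]
  rfl

theorem isMonHom_scale (c : 𝟙_ (Over S) ⟶ Red.Gm S) {q : ℕ}
    (hq : ∀ (X : Over S) (a b : Γ(X.left, ⊤)), (a + b) ^ q = a ^ q + b ^ q) : IsMonHom (scale c q) :=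
  MTBridge.isMonHom_of_points _ fun X x y => gaPt_ext (by
    rw [gaFn_mul, gaFn_comp_scale, gaFn_comp_scale, gaFn_comp_scale, gaFn_mul, hq, mul_add])

theorem Calc.H_pow {G : Type*} [Group G] {R : Type*} [CommRing R] (C : Calc G R) (v : Rˣ) (n : ℕ) :
    C.H (v ^ n) = C.H v ^ n := by
  induction n with
  | zero => rw [pow_zero, pow_zero, C.H_one]
  | succ n ih => rw [pow_succ, pow_succ, C.H_mul, ih]

variable {T : Over S} [GrpObj T] {α : T ⟶ Red.Gm S} {av : Red.Gm S ⟶ T}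
  {G' T' : Over S} [GrpObj G'] [GrpObj T'] {i' : T' ⟶ G'} {α' : T' ⟶ Red.Gm S}
  {pp' pm' : Red.Ga S ⟶ G'} {av' : Red.Gm S ⟶ T'}

/-- The target data of the isomorphism theorem form a rank-one system over `T`. -/
theorem Sys.transport [IsMonHom α] [IsMonHom av] (h2 : av ≫ α = (𝟙 (Red.Gm S)) ^ 2)
    (s' : Sys i' α' pp' pm' av') {q : ℕ}
    (hq : ∀ (X : Over S) (a b : Γ(X.left, ⊤)), (a + b) ^ q = a ^ q + b ^ q) (c : 𝟙_ (Over S) ⟶ Red.Gm S)
    (fT : T ⟶ T') [IsMonHom fT] (hfTα : fT ≫ α' = α ^ q) (hfTav : av ≫ fT = av' ^ q) :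
    Sys (fT ≫ i') α (scale c q ≫ pp') (scale c⁻¹ q ≫ pm') av := by
  haveI := s'.hi; haveI := s'.hpph; haveI := s'.hpmh
  haveI := isMonHom_scale c hq; haveI := isMonHom_scale c⁻¹ hq
  have hrt : ∀ (X : Over S) (t : X ⟶ T), rt α' (t ≫ fT) = rt α t ^ q := fun X t => by
    ext
    change Red.gmFn ((t ≫ fT) ≫ α') = ((rt α t ^ q : (Γ(X.left, ⊤))ˣ) : Γ(X.left, ⊤))
    rw [Category.assoc, hfTα, MonObj.comp_pow, gmFn_pow, Units.val_pow_eq_pow_val]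
    rfl
  have hinv : ∀ X : Over S, GmPts.unitOfPt (toUnit X ≫ c⁻¹) = (GmPts.unitOfPt (toUnit X ≫ c))⁻¹ := fun X => by
    rw [GrpObj.comp_inv, GmPts.unitOfPt_inv]
  refine ⟨inferInstance, inferInstance, inferInstance, inferInstance, inferInstance, h2, ?_, ?_, ?_⟩
  · intro X t x
    refine ⟨gaPt (Red.gmFn (t ≫ α) * Red.gaFn x), ?_, gaFn_gaPt _⟩
    have h := s'.conj_P (t ≫ fT) ((GmPts.unitOfPt (toUnit X ≫ c) : Γ(X.left, ⊤)) * Red.gaFn x ^ q)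
    conv_rhs => rw [← gaPt_gaFn x]
    simp only [← Category.assoc]
    rw [gaPt_comp_scale, gaPt_comp_scale, h, hrt,
      Units.val_pow_eq_pow_val, mul_pow]
    congr 2
    change _ * ((rt α t : Γ(X.left, ⊤)) ^ q * _) = _
    ring
  · intro X t y
    refine ⟨gaPt ((↑(rt α t)⁻¹ : Γ(X.left, ⊤)) * Red.gaFn y), ?_, ?_⟩
    · have h := s'.conj_M (t ≫ fT) ((GmPts.unitOfPt (toUnit X ≫ c⁻¹) : Γ(X.left, ⊤)) * Red.gaFn y ^ q)
      conv_rhs => rw [← gaPt_gaFn y]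
      simp only [← Category.assoc]
      rw [gaPt_comp_scale, gaPt_comp_scale, h, hrt,
        ← inv_pow, Units.val_pow_eq_pow_val, mul_pow]
      congr 2
      ring
    · rw [gaFn_gaPt, ← GmPts.val_unitOfPt (t ≫ α)]
      linear_combination Red.gaFn y * Units.inv_mul (rt α t)
  · intro X x y hu
    obtain ⟨u, hu⟩ := hu
    refine ⟨gaPt (Red.gaFn x * ↑u⁻¹), gaPt (Red.gaFn y * ↑u⁻¹), GmPts.ptOfUnit u, ?_, ?_, ?_, ?_⟩
    · rw [GmPts.gmFn_ptOfUnit, hu]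
    · rw [gaFn_gaPt, GmPts.gmFn_ptOfUnit, mul_assoc, Units.inv_mul, mul_one]
    · rw [gaFn_gaPt, GmPts.gmFn_ptOfUnit, mul_assoc, Units.inv_mul, mul_one]
    have hU : ((u ^ q : (Γ(X.left, ⊤))ˣ) : Γ(X.left, ⊤)) =
        1 + ((GmPts.unitOfPt (toUnit X ≫ c) : Γ(X.left, ⊤)) * Red.gaFn x ^ q) *
          ((GmPts.unitOfPt (toUnit X ≫ c⁻¹) : Γ(X.left, ⊤)) * Red.gaFn y ^ q) := by
      rw [Units.val_pow_eq_pow_val, hu, hq, one_pow, mul_pow, hinv]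
      linear_combination -(Red.gaFn x ^ q * Red.gaFn y ^ q) * Units.mul_inv (GmPts.unitOfPt (toUnit X ≫ c))
    have h := (s'.calc' X).rule _ _ _ hU
    conv_lhs => rw [← gaPt_gaFn x, ← gaPt_gaFn y]
    simp only [← Category.assoc, gaPt_comp_scale, mul_pow, ← Units.val_pow_eq_pow_val, inv_pow]
    refine h.trans ?_
    have eH : (((GmPts.ptOfUnit u : X ⟶ Red.Gm S) ≫ av) ≫ fT) ≫ i' =
        ((GmPts.ptOfUnit (u ^ q) : X ⟶ Red.Gm S) ≫ av') ≫ i' := by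
      rw [Category.assoc (GmPts.ptOfUnit u), hfTav, MonObj.comp_pow, MonObj.pow_comp]
      change (s'.calc' X).H u ^ q = (s'.calc' X).H (u ^ q)
      exact ((s'.calc' X).H_pow u q).symm
    rw [eH]
    change gaPt _ ≫ pm' * ((GmPts.ptOfUnit (u ^ q) ≫ av') ≫ i') * (gaPt _ ≫ pp') = _
    simp only [mul_assoc]

end Groth.Agent.RedR1
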