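import Groth.Agent.RedR1.Gen
import Groth.Agent.RedR1.Iso
import Groth.Agent.FibreFlat.Stalk

/-!
# Homomorphisms that are faithfully flat on the cells
-/

set_option autoImplicit false
set_option linter.style.haveILetI false

universe u

open CategoryTheory MonoidalCategory CartesianMonoidalCategory AlgebraicGeometry
open scoped CategoryTheory.MonObj CategoryTheory.GrpObj
open Groth.Agent.BGaNotS (gaPt gaFn_gaPt gaPt_ext gaFn_comp gaFn_mul gaFn_one)

noncomputable section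

namespace Groth.Agent.RedR1

variable {S : Scheme.{u}}

theorem flat_tensorHom {A B C D : Over S} (f : A ⟶ B) (g : C ⟶ D) [Flat f.left] [Flat g.left] :
    Flat (f ⊗ₘ g).left := by
  rw [Over.tensorHom_left]
  exact MorphismProperty.pullbackMap (P := @Flat) ‹_› ‹_› (Over.w f).symm (Over.w g).symm

theorem surjective_tensorHom {A B C D : Over S} (f : A ⟶ B) (g : C ⟶ D) [Surjective f.left]
    [Surjective g.left] : Surjective (f ⊗ₘ g).left := by
  rw [Over.tensorHom_left]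
  haveI : MorphismProperty.IsStableUnderComposition @Surjective := ⟨fun f g hf hg => inferInstanceAs (Surjective (f ≫ g))⟩
  exact MorphismProperty.pullbackMap (P := @Surjective) ‹_› ‹_› (Over.w f).symm (Over.w g).symm

theorem flat_of_flat_surjective_comp {W X Y : Scheme.{u}} (q : W ⟶ X) (g : X ⟶ Y) [Flat q] [Surjective q]
    [Flat (q ≫ g)] : Flat g := by
  refine (Flat.iff_flat_stalkMap g).2 fun x => ?_
  obtain ⟨w, rfl⟩ := q.surjective x
  exact FibreFlat.flatAt_of_comp (Flat.stalkMap q w) (Flat.stalkMap (q ≫ g) w)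

variable {G T G' T' : Over S} [GrpObj G] [GrpObj T] [GrpObj G'] [GrpObj T']

/-- The map `(a, b) ↦ a⁻¹ b`. -/
def divMap (G : Over S) [GrpObj G] : G ⊗ G ⟶ G := (fst G G)⁻¹ * snd G G

theorem lift_divMap {X : Over S} (a b : X ⟶ G) : lift a b ≫ divMap G = a⁻¹ * b := by
  rw [divMap, MonObj.comp_mul, GrpObj.comp_inv, lift_fst, lift_snd]

theorem flat_divMap (hG : Flat G.hom) : Flat (divMap G).left := by
  let e : G ⊗ G ⟶ G ⊗ G := lift (fst G G) ((fst G G)⁻¹ * snd G G)
  haveI : IsIso e := ⟨lift (fst G G) (fst G G * snd G G),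
    by ext <;> simp [e, MonObj.comp_mul, GrpObj.comp_inv],
    by ext <;> simp [e, MonObj.comp_mul, GrpObj.comp_inv]⟩
  haveI : IsIso e.left := inferInstanceAs (IsIso ((Over.forget S).map e))
  haveI : Flat (snd G G).left := inferInstanceAs (Flat (Limits.pullback.snd G.hom G.hom))
  rw [show divMap G = e ≫ snd G G by simp [e, divMap], Over.comp_left]
  infer_instance

theorem surjective_divMap : Surjective (divMap G).left := by
  refine ⟨fun p => ⟨(lift (1 : G ⟶ G) (𝟙 G)).left p, ?_⟩⟩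
  rw [← Scheme.Hom.comp_apply, ← Over.comp_left, lift_divMap, inv_one, one_mul]
  rfl

variable {i : T ⟶ G} {pp pm : Red.Ga S ⟶ G} {i' : T' ⟶ G'} {pp' pm' : Red.Ga S ⟶ G'}

/-- A homomorphism which is faithfully flat from cell to cell is faithfully flat. -/
theorem flat_surjective_of_cell [IsMonHom i] [IsMonHom pp] [IsMonHom pm]
    [IsOpenImmersion (cellMap i pp pm).left] [IsMonHom i'] [IsMonHom pp'] [IsMonHom pm']
    [IsOpenImmersion (cellMap i' pp' pm').left] (hG : Red.IsReductive G) (hG' : Red.IsReductive G')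
    (f : G ⟶ G') [IsMonHom f] (fT : T ⟶ T') [Flat fT.left] [Surjective fT.left]
    (ca cb : Red.Ga S ⟶ Red.Ga S) [IsIso ca] [IsIso cb] (hi : i ≫ f = fT ≫ i')
    (hP : pp ≫ f = ca ≫ pp') (hM : pm ≫ f = cb ≫ pm') : Flat f.left ∧ Surjective f.left := by
  haveI : IsIso ca.left := inferInstanceAs (IsIso ((Over.forget S).map ca))
  haveI : IsIso cb.left := inferInstanceAs (IsIso ((Over.forget S).map cb))
  let h := (cb ⊗ₘ fT) ⊗ₘ ca
  haveI : Flat (cb ⊗ₘ fT).left := flat_tensorHom _ _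
  haveI : Surjective (cb ⊗ₘ fT).left := surjective_tensorHom _ _
  haveI : Flat h.left := flat_tensorHom _ _
  haveI : Surjective h.left := surjective_tensorHom _ _
  haveI := hG.2.1; haveI := hG'.2.1
  have hcell : cellMap i pp pm ≫ f = h ≫ cellMap i' pp' pm' := by
    have e : ∀ {X : Over S} (y : X ⟶ Red.Ga S) (t : X ⟶ T) (x : X ⟶ Red.Ga S),
        lift (lift y t) x ≫ cellMap i pp pm ≫ f = lift (lift y t) x ≫ h ≫ cellMap i' pp' pm' := by
      intro X y t x
      rw [← Category.assoc, lift_cellMap, MonObj.mul_comp, MonObj.mul_comp, ← Category.assoc (lift (lift y t) x) h,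
        lift_map, lift_map, lift_cellMap]
      simp only [Category.assoc, hi, hP, hM]
    have e0 : lift (lift (fst _ _ ≫ fst _ _) (fst _ _ ≫ snd _ _)) (snd _ _) =
        𝟙 ((Red.Ga S ⊗ T) ⊗ Red.Ga S) := by ext <;> simp
    have := e (fst _ _ ≫ fst _ _) (fst _ _ ≫ snd _ _) (snd _ (Red.Ga S))
    rwa [e0, Category.id_comp, Category.id_comp] at this
  let ψ := (cellMap i pp pm ⊗ₘ cellMap i pp pm) ≫ divMap G
  let ψ' := (cellMap i' pp' pm' ⊗ₘ cellMap i' pp' pm') ≫ divMap G'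
  have hψ : ψ ≫ f = (h ⊗ₘ h) ≫ ψ' := by
    have hd : divMap G ≫ f = (f ⊗ₘ f) ≫ divMap G' := by
      simp [divMap, MonObj.mul_comp, MonObj.comp_mul, GrpObj.inv_comp, GrpObj.comp_inv]
    change ((cellMap i pp pm ⊗ₘ cellMap i pp pm) ≫ divMap G) ≫ f =
      (h ⊗ₘ h) ≫ (cellMap i' pp' pm' ⊗ₘ cellMap i' pp' pm') ≫ divMap G'
    rw [Category.assoc, hd, tensorHom_comp_tensorHom_assoc, tensorHom_comp_tensorHom_assoc, hcell]
  have hflat : ∀ {G : Over S} [GrpObj G] {i : T ⟶ G} {pp pm : Red.Ga S ⟶ G}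
      [IsOpenImmersion (cellMap i pp pm).left], Smooth G.hom →
      Flat ((cellMap i pp pm ⊗ₘ cellMap i pp pm) ≫ divMap G).left := fun {G} _ {i pp pm} _ hs => by
    haveI := hs
    haveI := flat_tensorHom (cellMap i pp pm) (cellMap i pp pm)
    haveI := flat_divMap (G := G) inferInstance
    rw [Over.comp_left]; infer_instance
  haveI : Flat ψ'.left := by
    haveI := flat_tensorHom (cellMap i' pp' pm') (cellMap i' pp' pm')
    haveI := flat_divMap (G := G') inferInstance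
    rw [Over.comp_left]; infer_instance
  haveI : Flat ψ.left := hflat hG.2.1
  have hsur : ∀ {G T : Over S} [GrpObj G] [GrpObj T] {i : T ⟶ G} {pp pm : Red.Ga S ⟶ G} [IsMonHom i] [IsMonHom pp]
      [IsMonHom pm] [IsOpenImmersion (cellMap i pp pm).left], Red.IsReductive G →
      Surjective ((cellMap i pp pm ⊗ₘ cellMap i pp pm) ≫ divMap G).left := fun {G T} _ _ {i pp pm} _ _ _ _ hG => by
    obtain ⟨X', a, c, -, hs, -, ⟨y, t, x, hc⟩, hd⟩ := exists_translate (i := i) (pp := pp) (pm := pm) hG ![𝟙 G]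
    obtain ⟨y', t', x', hd⟩ := hd 0
    have ha : lift (lift (lift y t) x) (lift (lift y' t') x') ≫
        (cellMap i pp pm ⊗ₘ cellMap i pp pm) ≫ divMap G = a := by
      rw [lift_map_assoc, lift_cellMap, lift_cellMap, lift_divMap, ← hc, ← hd]
      simp
    refine ⟨fun p => ?_⟩
    obtain ⟨q, hq⟩ := a.left.surjective p
    rw [← ha, Over.comp_left, Scheme.Hom.comp_apply] at hq
    exact ⟨_, hq⟩
  haveI : Surjective ψ.left := hsur hG
  haveI : Surjective ψ'.left := hsur hG'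
  haveI : Flat (h ⊗ₘ h).left := flat_tensorHom _ _
  haveI : Surjective (h ⊗ₘ h).left := surjective_tensorHom _ _
  have hψl : ψ.left ≫ f.left = (h ⊗ₘ h).left ≫ ψ'.left := congrArg (fun m => m.left) hψ
  haveI : Flat (ψ.left ≫ f.left) := hψl ▸ inferInstance
  haveI : Surjective (ψ.left ≫ f.left) := hψl ▸ inferInstance
  exact ⟨flat_of_flat_surjective_comp ψ.left f.left, Surjective.of_comp ψ.left f.left⟩

/-- The kernel of a homomorphism mapping the cell to the cell lies in the torus. -/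
theorem Sys.kernel_mem_torus {α : T ⟶ Red.Gm S} {av : Red.Gm S ⟶ T} {α' : T' ⟶ Red.Gm S}
    {av' : Red.Gm S ⟶ T'} (s : Sys i α pp pm av) (s' : Sys i' α' pp' pm' av')
    [IsOpenImmersion (cellMap i pp pm).left] [IsOpenImmersion (cellMap i' pp' pm').left]
    (hG : Red.IsReductive G) (hT' : Red.IsTorus T') (f : G ⟶ G') [IsMonHom f] (fT : T ⟶ T')
    (ca cb : Red.Ga S ⟶ Red.Ga S) [IsIso ca] [IsIso cb] [IsMonHom ca] [IsMonHom cb] (hi : i ≫ f = fT ≫ i')
    (hP : pp ≫ f = ca ≫ pp') (hM : pm ≫ f = cb ≫ pm')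
    (hw : ∀ X : Over S, ∃ a : (Γ(X.left, ⊤))ˣ, (s.calc' X).w 1 ≫ f = (s'.calc' X).w a)
    {X : Over S} (g : X ⟶ G) (hg : g ≫ f = 1) : ∃ t : X ⟶ T, t ≫ i = g ∧ t ≫ fT = 1 := by
  haveI := s.hi; haveI := s.hpph; haveI := s.hpmh; haveI := s'.hi; haveI := s'.hpph; haveI := s'.hpmh
  have himg : ∀ {Z : Over S} (y : Z ⟶ Red.Ga S) (t : Z ⟶ T) (x : Z ⟶ Red.Ga S),
      ((y ≫ pm) * (t ≫ i) * (x ≫ pp)) ≫ f = ((y ≫ cb) ≫ pm') * ((t ≫ fT) ≫ i') * ((x ≫ ca) ≫ pp') := by
    intro Z y t x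
    rw [MonObj.mul_comp, MonObj.mul_comp]
    simp only [Category.assoc, hi, hP, hM]
  have hcell : InCell i pp pm g := by
    rw [inCell_iff]
    rintro _ ⟨p, rfl⟩
    obtain ⟨X', e, he, ⟨z⟩, hv, hg'⟩ := s.inCell_or hG g p
    rcases hg' with hg' | ⟨y, t, x, hg'⟩
    · rw [inCell_iff] at hg'
      have h0 : (e ≫ g).left z = g.left p := (Scheme.Hom.comp_apply _ _ _).trans (congrArg _ (he z))
      exact h0 ▸ hg' ⟨z, rfl⟩
    exfalso
    obtain ⟨a, ha⟩ := hw X'
    have h1 := congrArg (· ≫ f) hg'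
    simp only [himg] at h1
    rw [MonObj.mul_comp, GrpObj.inv_comp, ha, Category.assoc, hg, MonObj.comp_one, mul_one] at h1
    exact s'.w_not_inCell hT' (hv 4 (by norm_num)) (-a) ⟨_, _, _, ((s'.calc' X').w_neg a).trans h1⟩
  obtain ⟨y, t, x, rfl⟩ := hcell
  rw [himg] at hg
  obtain ⟨hy, ht, hx⟩ := cell_inj (i := i') (pp := pp') (pm := pm') (y' := 1) (t' := 1) (x' := 1)
    (hg.trans (by simp [MonObj.one_comp]))
  refine ⟨t, ?_, ht⟩
  obtain rfl : y = 1 := by rw [← cancel_mono cb, hy]; exact (MonObj.one_comp cb).symm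
  obtain rfl : x = 1 := by rw [← cancel_mono ca, hx]; exact (MonObj.one_comp ca).symm
  simp [MonObj.one_comp]

end Groth.Agent.RedR1
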