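import Groth.Agent.RedR1.Gen
import Groth.Agent.MTBridge.FlatMT
import Groth.Agent.MTBridge.MonoTori
import Groth.Agent.MTBridge.ExtCentral
import Groth.Agent.MTBridge.Charts

/-!
# Generic values of a character of a torus
-/

set_option autoImplicit false
set_option linter.style.haveILetI false

universe u

open CategoryTheory MonoidalCategory CartesianMonoidalCategory AlgebraicGeometry
open scoped CategoryTheory.MonObj CategoryTheory.GrpObj CategoryTheory.Obj

noncomputable section

namespace Groth.Agent.RedR1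

/-- Geometric fibres of tori are integral. -/
theorem isIntegral_DS (L : Type u) [Field L] (r : ℕ) :
    IsIntegral (Red.DS (Spec (CommRingCat.of L)) (Fin r → ℤ)).left := by
  obtain ⟨e⟩ := MTBridge.nonempty_DS_iso L (Fin r → ℤ)
  haveI : IsDomain (MonoidAlgebra L (Multiplicative (Fin r → ℤ))) := NoZeroDivisors.to_isDomain _
  haveI : IsIntegral ((Spec (CommRingCat.of (MonoidAlgebra L (Multiplicative (Fin r → ℤ))))).asOver
      (Spec (CommRingCat.of L))).left :=
    inferInstanceAs (IsIntegral (Spec (CommRingCat.of (MonoidAlgebra L (Multiplicative (Fin r → ℤ))))))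
  haveI : IsIso e.hom.hom.hom.left :=
    inferInstanceAs (IsIso ((Over.forget _).map ((Grp.forget _).map e.hom)))
  haveI : Nonempty (Red.DS (Spec (CommRingCat.of L)) (Fin r → ℤ)).left :=
    ⟨(inv e.hom.hom.hom.left) (Classical.arbitrary _)⟩
  exact isIntegral_of_isOpenImmersion e.hom.hom.hom.left

/-- Flat locally there are points of a torus where a nowhere trivial character is generic. -/
theorem exists_torus_char_cover {S : Scheme.{u}} (Q : Over S) [GrpObj Q] (hQ : Red.IsTorus Q)
    (χ : Q ⟶ Red.Gm S) [IsMonHom χ] (hχ : ∀ s : S, (Over.pullback (Red.geomPt s)).map χ ≠ 1)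
    (X : Over S) {m : ℕ} (hm : 0 < m) :
    ∃ (X' : Over S) (f : X' ⟶ X) (t : X' ⟶ Q), Flat f.left ∧ Surjective f.left ∧
      IsUnit (Red.gmFn (t ≫ χ) ^ m - 1) := by
  haveI := MTBridge.flat_of_isMultTypeFT Q (MTBridge.isMultTypeFT_of_isTorus Q hQ)
  haveI : Flat (fst X Q).left := inferInstanceAs (Flat (Limits.pullback.fst X.hom Q.hom))
  let a : Γ(Q.left, ⊤) := Red.gmFn χ ^ m - 1
  let W : (X ⊗ Q).left.Opens := (snd X Q).left ⁻¹ᵁ Q.left.basicOpen a
  let X' : Over S := Over.mk (W.ι ≫ (X ⊗ Q).hom)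
  let w : X' ⟶ X ⊗ Q := Over.homMk W.ι
  refine ⟨X', w ≫ fst X Q, w ≫ snd X Q, inferInstanceAs (Flat (W.ι ≫ (fst X Q).left)), ⟨fun p => ?_⟩, ?_⟩
  · let s := X.hom p
    obtain ⟨S', g, hgf, hgs, -, hloc⟩ := hQ
    obtain ⟨s', hs'⟩ := hgs.surj s
    obtain ⟨U, hU, r, hr⟩ := hloc s'
    let US : Scheme.{u} := U.toScheme
    let u₀ : US := ⟨s', hU⟩
    let L := AlgebraicClosure (US.residueField u₀)
    let gu : Spec (CommRingCat.of L) ⟶ (U : Scheme.{u}) := Red.geomPt u₀
    let j : Spec (CommRingCat.of L) ⟶ S := gu ≫ U.ι ≫ g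
    obtain ⟨e⟩ := MTBridge.nonempty_bc_split hr gu
    have hj : ∀ z, j z = s := fun z => by
      change (gu ≫ U.ι ≫ g) z = s
      rw [Scheme.Hom.comp_apply, Scheme.Hom.comp_apply,
        show gu z = u₀ from (Scheme.Hom.comp_apply _ _ _).trans (Scheme.fromSpecResidueField_apply _ _)]
      exact hs'
    let X0 : Over S := Over.mk j
    haveI : IsIntegral (Red.DS (Spec (CommRingCat.of L)) (Fin r → ℤ)).left := isIntegral_DS L r
    haveI : IsIso e.hom.hom.hom.left :=
      inferInstanceAs (IsIso ((Over.forget _).map ((Grp.forget _).map e.hom)))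
    haveI : Nonempty (Red.bc j Q).left := ⟨(inv e.hom.hom.hom.left) (Classical.arbitrary _)⟩
    haveI : IsIntegral (Red.bc j Q).left := isIntegral_of_isOpenImmersion e.hom.hom.hom.left
    -- the base change as a product
    let φ : X0 ⊗ Q ⟶ X0 ⊗ Q := 𝟙 _
    let σ : (X0 ⊗ Q).left ≅ (Red.bc j Q).left := Limits.pullbackSymmetry j Q.hom
    haveI : Nonempty (X0 ⊗ Q).left := ⟨σ.inv (Classical.arbitrary _)⟩
    haveI : IsIntegral (X0 ⊗ Q).left := isIntegral_of_isOpenImmersion σ.hom
    let b : Γ((X0 ⊗ Q).left, ⊤) := (snd X0 Q).left.appTop (Red.gmFn χ)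
    let e0 : X0 ⟶ X0 ⊗ Q := lift (𝟙 X0) 1
    have hb : b ^ m - 1 ≠ 0 := by
      intro hb
      let φ : L →+* Γ((X0 ⊗ Q).left, ⊤) :=
        (fst X0 Q).left.appTop.hom.comp (Scheme.ΓSpecIso (CommRingCat.of L)).inv.hom
      obtain ⟨c, hc⟩ := mem_range_of_pow_eq_one φ hm (sub_eq_zero.1 hb)
      have h1 : e0.left.appTop b = 1 := by
        have : e0 ≫ snd X0 Q ≫ χ = 1 := by simp [e0, MonObj.one_comp]
        rw [← GmPts.gmFn_one (T := X0), ← this, GmPts.gmFn_comp, GmPts.gmFn_comp]
      have h2 : e0.left.appTop (φ c) = (Scheme.ΓSpecIso (CommRingCat.of L)).inv c := by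
        have : e0 ≫ fst X0 Q = 𝟙 X0 := by simp [e0]
        change e0.left.appTop ((fst X0 Q).left.appTop _) = _
        rw [← CommRingCat.comp_apply, ← Scheme.Hom.comp_appTop, ← Over.comp_left, this]
        rfl
      rw [hc, h1] at h2
      have hc1 : c = 1 := by
        have h3 := congrArg (Scheme.ΓSpecIso (CommRingCat.of L)).hom h2
        rw [map_one, ← CommRingCat.comp_apply, Iso.inv_hom_id] at h3
        exact h3.symm
      rw [hc1, map_one] at hc
      have h4 : snd X0 Q ≫ χ = 1 :=
        GmPts.gmFn_injective (show Red.gmFn (snd X0 Q ≫ χ) = Red.gmFn 1 by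
          rw [GmPts.gmFn_comp, GmPts.gmFn_one]; exact hc.symm)
      have h6 := congrArg (fun f => f.left) h4
      rw [← MonObj.comp_one (snd X0 Q)] at h6
      have h7 : (Over.pullback j).map χ = 1 :=
        (MTBridge.map_eq_one_iff χ (IsPullback.of_hasPullback j Q.hom).flip).2 h6
      -- descend to the geometric point of `S`
      have hks : ∀ z, Red.geomPt s z = s := fun z =>
        (Scheme.Hom.comp_apply _ _ _).trans (Scheme.fromSpecResidueField_apply _ _)
      obtain ⟨zc, -, -⟩ := Scheme.Pullback.exists_preimage_pullback (f := j) (g := Red.geomPt s)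
        (Classical.arbitrary _) (Classical.arbitrary _) ((hj _).trans (hks _).symm)
      let c1 := Limits.pullback.fst j (Red.geomPt s)
      let c2 := Limits.pullback.snd j (Red.geomPt s)
      haveI : Surjective c2 := ⟨fun y => ⟨zc, Subsingleton.elim _ _⟩⟩
      haveI : Flat c2 := inferInstance
      refine hχ s (MTBridge.map_eq_one_of_ff χ (Red.geomPt s) c2 ?_)
      have hcc : c1 ≫ j = c2 ≫ Red.geomPt s := Limits.pullback.condition
      rw [MTBridge.map_eq_one_iff χ (IsPullback.of_hasPullback Q.hom (c2 ≫ Red.geomPt s))]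
      rw [MTBridge.map_eq_one_iff χ (IsPullback.of_hasPullback Q.hom j)] at h7
      have e : Limits.pullback.fst Q.hom (c2 ≫ Red.geomPt s) =
          Limits.pullback.lift (Limits.pullback.fst Q.hom (c2 ≫ Red.geomPt s))
            (Limits.pullback.snd Q.hom (c2 ≫ Red.geomPt s) ≫ c1)
            (by rw [Limits.pullback.condition, Category.assoc, hcc]) ≫ Limits.pullback.fst Q.hom j :=
        (Limits.pullback.lift_fst _ _ _).symm
      rw [e]
      exact (Category.assoc _ _ _).trans ((congrArg (_ ≫ ·) h7).trans (Category.assoc _ _ _).symm)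
    obtain ⟨q0, hq0⟩ : ∃ q0, q0 ∈ (X0 ⊗ Q).left.basicOpen (b ^ m - 1) := by
      by_contra hne
      push Not at hne
      refine hb ((basicOpen_eq_bot_iff _).1 ?_)
      ext q
      simpa using hne q
    have hq : (snd X0 Q).left q0 ∈ Q.left.basicOpen a := by
      have := Scheme.preimage_basicOpen_top (snd X0 Q).left a
      rw [show (snd X0 Q).left.appTop a = b ^ m - 1 by simp only [a, b, map_sub, map_pow, map_one]] at this
      rw [← this] at hq0
      exact hq0
    have hs : Q.hom ((snd X0 Q).left q0) = s := by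
      rw [← Scheme.Hom.comp_apply, Over.w, ← Over.w (fst X0 Q), Scheme.Hom.comp_apply]
      exact hj _
    obtain ⟨z, hz1, hz2⟩ := Scheme.Pullback.exists_preimage_pullback p ((snd X0 Q).left q0) hs.symm
    refine ⟨⟨z, ?_⟩, hz1⟩
    change (snd X Q).left z ∈ Q.left.basicOpen a
    exact hz2 ▸ hq
  · have h : Red.gmFn ((w ≫ snd X Q) ≫ χ) ^ m - 1 = (w ≫ snd X Q).left.appTop a := by
      rw [GmPts.gmFn_comp]
      simp [a]
    rw [h]
    refine (X'.left).toRingedSpace.isUnit_of_isUnit_germ ⊤ _ fun q hq => ?_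
    refine (Scheme.mem_basicOpen X'.left _ q hq).1 ?_
    rw [← Scheme.preimage_basicOpen_top]
    exact q.2

end Groth.Agent.RedR1
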