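import Groth.Agent.RedR1.Recover

/-!
# Presentation of a group of semisimple rank one
-/

set_option autoImplicit false
set_option linter.style.haveILetI false

universe u

open CategoryTheory MonoidalCategory CartesianMonoidalCategory AlgebraicGeometry
open scoped CategoryTheory.MonObj CategoryTheory.GrpObj
open Groth.Agent.BGaNotS (gaPt gaFn_gaPt gaPt_ext gaFn_comp gaFn_mul gaFn_one)

noncomputable section

namespace Groth.Agent.RedR1

variable {S : Scheme.{u}}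

/-- A flat surjective cover on which a polynomial, non-zero in every fibre, takes an invertible value. -/
theorem exists_value_cover (X : Over S) (p : Polynomial Γ(X.left, ⊤))
    (hp : ∀ P : Ideal Γ(X.left, ⊤), P.IsPrime → p.map (Ideal.Quotient.mk P) ≠ 0) :
    ∃ (X' : Over S) (g : X' ⟶ X) (c : Γ(X'.left, ⊤)), Epi g ∧ IsUnit (p.eval₂ g.left.appTop.hom c) := by
  let A := Localization.Away p
  haveI : Module.Flat (Polynomial Γ(X.left, ⊤)) A := IsLocalization.flat A (Submonoid.powers p)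
  haveI : Module.Flat Γ(X.left, ⊤) A := Module.Flat.trans Γ(X.left, ⊤) (Polynomial Γ(X.left, ⊤)) A
  let f := Spec.map (CommRingCat.ofHom (algebraMap Γ(X.left, ⊤) A))
  haveI : Flat f := by
    rw [Flat.SpecMap_iff]; exact RingHom.flat_algebraMap_iff.2 inferInstance
  haveI : Surjective f := ⟨fun P => by
    haveI : P.asIdeal.IsPrime := P.isPrime
    haveI : IsDomain (Γ(X.left, ⊤) ⧸ P.asIdeal) := Ideal.Quotient.isDomain _
    let K := FractionRing (Polynomial (Γ(X.left, ⊤) ⧸ P.asIdeal))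
    let φ : Polynomial Γ(X.left, ⊤) →+* K :=
      (algebraMap (Polynomial (Γ(X.left, ⊤) ⧸ P.asIdeal)) K).comp (Polynomial.mapRingHom (Ideal.Quotient.mk P.asIdeal))
    have hφ : IsUnit (φ p) := by
      refine IsUnit.mk0 _ fun h => hp P.asIdeal P.isPrime ?_
      exact IsFractionRing.injective (Polynomial (Γ(X.left, ⊤) ⧸ P.asIdeal)) K (h.trans (map_zero _).symm)
    let ψ : A →+* K := IsLocalization.Away.lift p hφ
    refine ⟨⟨RingHom.ker ψ, RingHom.ker_isPrime ψ⟩, PrimeSpectrum.ext ?_⟩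
    change Ideal.comap (algebraMap Γ(X.left, ⊤) A) (RingHom.ker ψ) = P.asIdeal
    rw [RingHom.comap_ker]
    have e : ψ.comp (algebraMap Γ(X.left, ⊤) A) = φ.comp Polynomial.C := by
      rw [IsScalarTower.algebraMap_eq Γ(X.left, ⊤) (Polynomial Γ(X.left, ⊤)) A, ← RingHom.comp_assoc,
        IsLocalization.Away.lift_comp]
      rfl
    ext r
    rw [RingHom.mem_ker, e, RingHom.comp_apply]
    change algebraMap (Polynomial (Γ(X.left, ⊤) ⧸ P.asIdeal)) K (Polynomial.map (Ideal.Quotient.mk P.asIdeal) (Polynomial.C r)) = 0 ↔ _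
    rw [map_eq_zero_iff _ (IsFractionRing.injective _ K), Polynomial.map_C, Polynomial.C_eq_zero,
      Ideal.Quotient.eq_zero_iff_mem]⟩
  let Y : Over S := Over.mk (Limits.pullback.fst X.left.toSpecΓ f ≫ X.hom)
  let g : Y ⟶ X := Over.homMk (Limits.pullback.fst X.left.toSpecΓ f)
  haveI : Flat g.left := inferInstanceAs (Flat (Limits.pullback.fst X.left.toSpecΓ f))
  haveI : Surjective g.left := inferInstanceAs (Surjective (Limits.pullback.fst X.left.toSpecΓ f))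
  let φ : A →+* Γ(Y.left, ⊤) :=
    (Limits.pullback.snd X.left.toSpecΓ f).appTop.hom.comp (Scheme.ΓSpecIso (CommRingCat.of A)).inv.hom
  have hφ : ∀ r, φ (algebraMap _ _ r) = g.left.appTop r := by
    intro r
    change (Limits.pullback.snd X.left.toSpecΓ f).appTop
      ((Scheme.ΓSpecIso (CommRingCat.of A)).inv (algebraMap _ _ r)) = _
    have h1 : (Scheme.ΓSpecIso (CommRingCat.of A)).inv (algebraMap _ _ r) =
        f.appTop ((Scheme.ΓSpecIso _).inv r) :=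
      congrArg (fun m => (CommRingCat.Hom.hom m) r)
        (Scheme.ΓSpecIso_inv_naturality (CommRingCat.ofHom (algebraMap Γ(X.left, ⊤) A)))
    have h2 : X.left.toSpecΓ.appTop ((Scheme.ΓSpecIso Γ(X.left, ⊤)).inv r) = r := by
      rw [Scheme.toSpecΓ_appTop, ← CommRingCat.comp_apply, Iso.inv_hom_id]; rfl
    conv_rhs => rw [← h2]
    rw [h1]
    have h3 := congrArg (fun m => m.appTop ((Scheme.ΓSpecIso Γ(X.left, ⊤)).inv r))
      (Limits.pullback.condition (f := X.left.toSpecΓ) (g := f))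
    simp only [Scheme.Hom.comp_appTop, CommRingCat.comp_apply] at h3
    exact h3.symm
  refine ⟨Y, g, φ (algebraMap (Polynomial Γ(X.left, ⊤)) A Polynomial.X), epi_of_flat_surjective g, ?_⟩
  have h : p.eval₂ g.left.appTop.hom (φ (algebraMap (Polynomial Γ(X.left, ⊤)) A Polynomial.X)) =
      φ (algebraMap (Polynomial Γ(X.left, ⊤)) A p) := by
    have h0 := Polynomial.hom_eval₂ p (algebraMap Γ(X.left, ⊤) (Polynomial Γ(X.left, ⊤))) (φ.comp (algebraMap _ A)) Polynomial.X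
    rw [Polynomial.algebraMap_eq, Polynomial.eval₂_C_X] at h0
    rw [← RingHom.comp_apply, ← RingHom.comp_apply, h0]
    congr 1
    exact RingHom.ext fun r => (hφ r).symm
  rw [h]
  exact (IsLocalization.Away.algebraMap_isUnit p).map φ

section group

variable {G : Type*} [Group G] {R : Type*} [CommRing R] (P : R → G) (H : Rˣ → G) (n : G)
  (P_add : ∀ a b, P (a + b) = P a * P b) (H_mul : ∀ u v, H (u * v) = H u * H v)
  (conj_P : ∀ (v : Rˣ) (a : R), H v * P a * (H v)⁻¹ = P ((v : R) * v * a))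

/-- The relation `P a · n P(1/a) n⁻¹ · P a = H a · n`. -/
def Braid (a : Rˣ) : Prop := P a * (n * P (↑a⁻¹ : R) * n⁻¹) * P a = H a * n

/-- The commutation rule. -/
def Rule (x y : R) (u : Rˣ) : Prop :=
  P x * (n * P (-y) * n⁻¹) = (n * P (-(y * ↑u⁻¹)) * n⁻¹) * H u * P (x * ↑u⁻¹)

variable {P H n}

include P_add H_mul conj_P in
/-- The braid relation at squares. -/
theorem braid_sq (hn : n * n = H (-1)) (hnH : ∀ v, n * H v * n⁻¹ = (H v)⁻¹) (h3 : (n * P 1) ^ 3 = 1) (v : Rˣ) :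
    Braid P H n (v * v) := by
  have H1 : H 1 = 1 := by
    have h := H_mul 1 1
    rw [mul_one] at h
    exact left_eq_mul.1 h
  have hc : H (-1) * P 1 = P 1 * H (-1) := by
    have h := conj_P (-1) 1
    rw [Units.val_neg, Units.val_one, neg_mul_neg, one_mul, one_mul] at h
    calc H (-1) * P 1 = H (-1) * P 1 * (H (-1))⁻¹ * H (-1) := by group
      _ = _ := by rw [h]
  have hH : H (-1) * H (-1) = 1 := by rw [← H_mul, neg_mul_neg, one_mul, H1]
  have e1 : P 1 * (n * P 1 * n⁻¹) * P 1 = n := by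
    have hni : n⁻¹ = n * H (-1) := by
      refine inv_eq_of_mul_eq_one_right ?_
      rw [← mul_assoc, hn, hH]
    have h3' : n * P 1 * (n * P 1) * (n * P 1) = 1 := by rw [← h3, pow_succ, pow_two]
    calc P 1 * (n * P 1 * n⁻¹) * P 1 = P 1 * n * P 1 * n * (H (-1) * P 1) := by rw [hni]; group
      _ = n⁻¹ * (n * P 1 * (n * P 1) * (n * P 1)) * H (-1) := by rw [hc]; group
      _ = n⁻¹ * H (-1) := by rw [h3']; group
      _ = n := by rw [← hn]; group
  unfold Braid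
  have e2 : P (((v * v : Rˣ) : R)) = H v * P 1 * (H v)⁻¹ := by rw [conj_P, mul_one, Units.val_mul]
  have hHi : H v⁻¹ = (H v)⁻¹ := eq_inv_of_mul_eq_one_left (by rw [← H_mul, inv_mul_cancel, H1])
  have e3 : P (↑(v * v)⁻¹ : R) = (H v)⁻¹ * P 1 * H v := by
    rw [← inv_inv (H v), ← hHi, inv_inv, conj_P, mul_one, mul_inv_rev, Units.val_mul]
  have hsw : n * (H v)⁻¹ = H v * n := by
    rw [← hHi]
    have h := hnH v⁻¹
    rw [hHi, inv_inv] at h
    conv_rhs => rw [← h]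
    rw [hHi]; group
  have hsw' : H v * n⁻¹ = n⁻¹ * (H v)⁻¹ := by
    calc H v * n⁻¹ = n⁻¹ * (n * H v * n⁻¹) := by group
      _ = _ := by rw [hnH]
  rw [e2, e3, H_mul]
  calc H v * P 1 * (H v)⁻¹ * (n * ((H v)⁻¹ * P 1 * H v) * n⁻¹) * (H v * P 1 * (H v)⁻¹)
      = H v * P 1 * (H v)⁻¹ * ((n * (H v)⁻¹) * P 1 * (H v * n⁻¹)) * (H v * P 1 * (H v)⁻¹) := by group
    _ = H v * (P 1 * (n * P 1 * n⁻¹) * P 1) * (H v)⁻¹ := by rw [hsw, hsw']; group
    _ = H v * H v * n := by rw [e1, mul_assoc (H v) n, hsw, mul_assoc]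

include P_add H_mul conj_P in
/-- The rule when the second coordinate is a unit. -/
theorem rule_of_braid (hnH : ∀ v, n * H v * n⁻¹ = (H v)⁻¹) (x : R) (y u : Rˣ) (hu : (u : R) = 1 + x * y)
    (h1 : Braid P H n (-y⁻¹)) (h2 : Braid P H n (-(u * y⁻¹))) : Rule P H n x y u := by
  have hP0 : P 0 = 1 := by
    have h := P_add 0 0
    rw [add_zero] at h
    exact left_eq_mul.1 h
  have hPn : ∀ a, P (-a) = (P a)⁻¹ := fun a =>
    eq_inv_of_mul_eq_one_left (by rw [← P_add, neg_add_cancel, hP0])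
  have hneg : ∀ a : Rˣ, (↑(-a)⁻¹ : R) = -(↑a⁻¹ : R) := fun a => by
    rw [show (-a)⁻¹ = -a⁻¹ by simp, Units.val_neg]
  unfold Braid at h1 h2
  rw [hneg, inv_inv, Units.val_neg, hPn (↑y⁻¹ : R)] at h1
  rw [hneg, mul_inv_rev, inv_inv, Units.val_neg, hPn ((u * y⁻¹ : Rˣ) : R), Units.val_mul, Units.val_mul] at h2
  have hs : H (-(u * y⁻¹)) = H (-y⁻¹) * H u := by rw [← H_mul]; congr 1; rw [neg_mul, mul_comm]
  have hHn : H u * n * H u = n := by
    calc H u * n * H u = H u * (n * H u * n⁻¹) * n := by group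
      _ = n := by rw [hnH]; group
  have hHP : ∀ a : R, P a * H u = H u * P ((↑u⁻¹ : R) * ↑u⁻¹ * a) := fun a => by
    have h := conj_P u ((↑u⁻¹ : R) * ↑u⁻¹ * a)
    rw [show (u : R) * u * ((↑u⁻¹ : R) * ↑u⁻¹ * a) = a by
      linear_combination (a * ((u : R) * ↑u⁻¹ + 1)) * Units.mul_inv u] at h
    rw [← h, inv_mul_cancel_right]
  unfold Rule
  have A : n * P (-(y : R)) * n⁻¹ = P (↑y⁻¹ : R) * H (-y⁻¹) * n * P (↑y⁻¹ : R) := by
    rw [mul_assoc (P _) (H _) n, ← h1]; group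
  have B : n * P (-((y : R) * ↑u⁻¹)) * n⁻¹ =
      P ((u : R) * ↑y⁻¹) * H (-y⁻¹) * H u * n * P ((u : R) * ↑y⁻¹) := by
    rw [mul_assoc (P _) (H _) (H u), ← hs, mul_assoc (P _) (H _) n, ← h2]; group
  have ex : x + (↑y⁻¹ : R) = (u : R) * ↑y⁻¹ := by
    rw [hu]; linear_combination -x * Units.mul_inv y
  calc P x * (n * P (-(y : R)) * n⁻¹) = P ((u : R) * ↑y⁻¹) * H (-y⁻¹) * n * P (↑y⁻¹ : R) := by
        rw [A, ← ex, P_add]; group
    _ = P ((u : R) * ↑y⁻¹) * H (-y⁻¹) * (H u * n * H u) *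
        P ((↑u⁻¹ : R) * ↑u⁻¹ * ((u : R) * ↑y⁻¹) + x * ↑u⁻¹) := by
        rw [hHn]
        congr 2
        linear_combination (↑u⁻¹ : R) * ex.symm - ((↑u⁻¹ : R) * ↑y⁻¹ + (↑y⁻¹ : R)) * Units.inv_mul u
    _ = _ := by rw [B, P_add]; simp only [mul_assoc]; rw [← mul_assoc (P ((u : R) * ↑y⁻¹)) (H u), hHP]; group

include P_add H_mul conj_P in
/-- The rule is additive in the second coordinate. -/
theorem rule_add (hnH : ∀ v, n * H v * n⁻¹ = (H v)⁻¹) (x y₁ y₂ : R) (u₁ u₂ u : Rˣ) (hu₁ : (u₁ : R) = 1 + x * y₁)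
    (hu : (u : R) = 1 + x * (y₁ + y₂)) (he : u = u₁ * u₂) (h1 : Rule P H n x y₁ u₁)
    (h2 : Rule P H n (x * ↑u₁⁻¹) y₂ u₂) : Rule P H n x (y₁ + y₂) u := by
  unfold Rule at *
  subst he
  have hsw : ∀ a : R, H u₁ * (n * P a * n⁻¹) = (n * P ((↑u₁⁻¹ : R) * ↑u₁⁻¹ * a) * n⁻¹) * H u₁ := fun a => by
    have hHi : H u₁⁻¹ = (H u₁)⁻¹ := by
      refine eq_inv_of_mul_eq_one_left ?_
      have H1 : H 1 = 1 := by
        have h := H_mul 1 1
        rw [mul_one] at h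
        exact left_eq_mul.1 h
      rw [← H_mul, inv_mul_cancel, H1]
    have h := hnH u₁⁻¹
    rw [hHi, inv_inv] at h
    rw [← conj_P, hHi]
    calc H u₁ * (n * P a * n⁻¹) = (n * (H u₁)⁻¹ * n⁻¹) * (n * P a * n⁻¹) := by rw [h]
      _ = n * ((H u₁)⁻¹ * P a * (H u₁)⁻¹⁻¹) * n⁻¹ * (n * (H u₁)⁻¹ * n⁻¹) := by group
      _ = _ := by rw [h]
  rw [neg_add, P_add, show n * (P (-y₁) * P (-y₂)) * n⁻¹ = (n * P (-y₁) * n⁻¹) * (n * P (-y₂) * n⁻¹) by group,
    ← mul_assoc, h1]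
  calc (n * P (-(y₁ * ↑u₁⁻¹)) * n⁻¹) * H u₁ * P (x * ↑u₁⁻¹) * (n * P (-y₂) * n⁻¹)
      = (n * P (-(y₁ * ↑u₁⁻¹)) * n⁻¹) * (H u₁ * (n * P (-(y₂ * ↑u₂⁻¹)) * n⁻¹)) * H u₂ * P (x * ↑u₁⁻¹ * ↑u₂⁻¹) := by
        rw [mul_assoc _ (P (x * ↑u₁⁻¹)), h2]; group
    _ = n * (P (-(y₁ * ↑u₁⁻¹)) * P ((↑u₁⁻¹ : R) * ↑u₁⁻¹ * -(y₂ * ↑u₂⁻¹))) * n⁻¹ * (H u₁ * H u₂) *
        P (x * ↑u₁⁻¹ * ↑u₂⁻¹) := by rw [hsw]; group
    _ = _ := by
        rw [← P_add, ← H_mul, mul_inv_rev, Units.val_mul]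
        congr 2
        · congr 3
          have e : (u₂ : R) * u₁ = 1 + x * (y₁ + y₂) := by rw [← hu, Units.val_mul, mul_comm]
          linear_combination (-y₁ * (↑u₁⁻¹ : R) * ↑u₁⁻¹ * ↑u₂⁻¹) * e +
            ((y₁ + y₂) * (↑u₁⁻¹ : R) * ↑u₁⁻¹ * ↑u₂⁻¹) * hu₁ +
            (y₁ * (↑u₁⁻¹ : R) * ↑u₂⁻¹ * ((u₂ : R) - 1) - (↑u₁⁻¹ : R) * ↑u₂⁻¹ * y₂) * Units.inv_mul u₁ +
            y₁ * (↑u₁⁻¹ : R) * Units.inv_mul u₂
        · ring

end group

end Groth.Agent.RedR1
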