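import Groth.Agent.RedR1.Group
import Groth.Agent.BGaNotS.GaPts
import Groth.Prelude.Def_GmPts
import Mathlib.AlgebraicGeometry.Morphisms.Flat
import Mathlib.RingTheory.AdjoinRoot

/-!
# The calculus of a rank-one system on points
-/

set_option autoImplicit false
set_option linter.style.haveILetI false

universe u

open CategoryTheory MonoidalCategory CartesianMonoidalCategory AlgebraicGeometry
open scoped CategoryTheory.MonObj CategoryTheory.GrpObj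
open Groth.Agent.BGaNotS (gaPt gaFn_gaPt gaPt_ext gaFn_comp gaFn_mul gaFn_one)

noncomputable section

namespace Groth.Agent.RedR1

variable {S : Scheme.{u}} {X X' : Over S}

theorem gaPt_eq_iff {x : X ⟶ Red.Ga S} {a : Γ(X.left, ⊤)} : gaPt a = x ↔ Red.gaFn x = a :=
  ⟨fun h => h ▸ gaFn_gaPt a, fun h => gaPt_ext ((gaFn_gaPt a).trans h.symm)⟩

theorem gaPt_gaFn (x : X ⟶ Red.Ga S) : gaPt (Red.gaFn x) = x := gaPt_eq_iff.2 rfl

theorem gaPt_add (a b : Γ(X.left, ⊤)) : (gaPt (a + b) : X ⟶ Red.Ga S) = gaPt a * gaPt b :=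
  gaPt_ext (by rw [gaFn_mul, gaFn_gaPt, gaFn_gaPt, gaFn_gaPt])

theorem gaPt_comp (g : X' ⟶ X) (a : Γ(X.left, ⊤)) : g ≫ gaPt a = gaPt (g.left.appTop a) :=
  gaPt_ext (by rw [gaFn_comp, gaFn_gaPt, gaFn_gaPt])

/-- The hypotheses of a rank-one system. -/
structure Sys {G T : Over S} [GrpObj G] [GrpObj T] (i : T ⟶ G) (α : T ⟶ Red.Gm S) (pp pm : Red.Ga S ⟶ G)
    (av : Red.Gm S ⟶ T) : Prop where
  hi : IsMonHom i
  hα : IsMonHom α
  hpph : IsMonHom pp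
  hpmh : IsMonHom pm
  havh : IsMonHom av
  h2 : av ≫ α = (𝟙 (Red.Gm S)) ^ 2
  hpp : ∀ (X : Over S) (t : X ⟶ T) (x : X ⟶ Red.Ga S), ∃ x' : X ⟶ Red.Ga S,
      x' ≫ pp = (t ≫ i) * (x ≫ pp) * (t ≫ i)⁻¹ ∧ Red.gaFn x' = Red.gmFn (t ≫ α) * Red.gaFn x
  hpm : ∀ (X : Over S) (t : X ⟶ T) (y : X ⟶ Red.Ga S), ∃ y' : X ⟶ Red.Ga S,
      y' ≫ pm = (t ≫ i) * (y ≫ pm) * (t ≫ i)⁻¹ ∧ Red.gaFn y' * Red.gmFn (t ≫ α) = Red.gaFn y
  hF : ∀ (X : Over S) (x y : X ⟶ Red.Ga S), IsUnit (1 + Red.gaFn x * Red.gaFn y) →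
      ∃ (x' y' : X ⟶ Red.Ga S) (z : X ⟶ Red.Gm S), Red.gmFn z = 1 + Red.gaFn x * Red.gaFn y ∧
        Red.gaFn x' * Red.gmFn z = Red.gaFn x ∧ Red.gaFn y' * Red.gmFn z = Red.gaFn y ∧
        (x ≫ pp) * (y ≫ pm) = (y' ≫ pm) * (z ≫ av ≫ i) * (x' ≫ pp)

namespace Sys

variable {G T : Over S} [GrpObj G] [GrpObj T] {i : T ⟶ G} {α : T ⟶ Red.Gm S} {pp pm : Red.Ga S ⟶ G}
  {av : Red.Gm S ⟶ T}

/-- The root value of a point of the torus, as a unit. -/
abbrev rt (α : T ⟶ Red.Gm S) (t : X ⟶ T) : (Γ(X.left, ⊤))ˣ := GmPts.unitOfPt (t ≫ α)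

theorem conj_P (s : Sys i α pp pm av) (t : X ⟶ T) (a : Γ(X.left, ⊤)) :
    (t ≫ i) * (gaPt a ≫ pp) * (t ≫ i)⁻¹ = gaPt ((rt α t : Γ(X.left, ⊤)) * a) ≫ pp := by
  obtain ⟨x', h1, h2⟩ := s.hpp X t (gaPt a)
  rw [gaFn_gaPt] at h2
  rw [← h1]
  exact congrArg (· ≫ pp) (gaPt_eq_iff.2 h2).symm

theorem conj_M (s : Sys i α pp pm av) (t : X ⟶ T) (a : Γ(X.left, ⊤)) :
    (t ≫ i) * (gaPt a ≫ pm) * (t ≫ i)⁻¹ = gaPt ((↑(rt α t)⁻¹ : Γ(X.left, ⊤)) * a) ≫ pm := by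
  obtain ⟨y', h1, h2⟩ := s.hpm X t (gaPt a)
  rw [gaFn_gaPt] at h2
  have h3 : Red.gaFn y' = (↑(rt α t)⁻¹ : Γ(X.left, ⊤)) * a := by
    rw [← h2, mul_comm, mul_assoc]
    exact (congrArg (Red.gaFn y' * ·) (Units.mul_inv (rt α t))).trans (mul_one _) |>.symm
  rw [← h1]
  exact congrArg (· ≫ pm) (gaPt_eq_iff.2 h3).symm

theorem rt_av (s : Sys i α pp pm av) (v : (Γ(X.left, ⊤))ˣ) :
    rt α ((GmPts.ptOfUnit v : X ⟶ Red.Gm S) ≫ av) = v * v := by
  have h : ((GmPts.ptOfUnit v : X ⟶ Red.Gm S) ≫ av) ≫ α = GmPts.ptOfUnit v * GmPts.ptOfUnit v := by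
    rw [Category.assoc, s.h2, pow_two, MonObj.comp_mul, Category.comp_id]
  change GmPts.unitOfPt (((GmPts.ptOfUnit v : X ⟶ Red.Gm S) ≫ av) ≫ α) = _
  rw [h, GmPts.unitOfPt_mul, GmPts.unitOfPt_ptOfUnit]

/-- The group calculus on `X`-points. -/
def calc' (s : Sys i α pp pm av) (X : Over S) : Calc (X ⟶ G) Γ(X.left, ⊤) :=
  haveI := s.hi; haveI := s.hpph; haveI := s.hpmh; haveI := s.havh
  { P := fun a => gaPt a ≫ pp
    M := fun a => gaPt a ≫ pm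
    H := fun v => ((GmPts.ptOfUnit v : X ⟶ Red.Gm S) ≫ av) ≫ i
    P_add := fun a b => by rw [gaPt_add, MonObj.mul_comp]
    M_add := fun a b => by rw [gaPt_add, MonObj.mul_comp]
    H_mul := fun u v => by rw [GmPts.ptOfUnit_mul, MonObj.mul_comp, MonObj.mul_comp]
    conj_P := fun v a => by rw [s.conj_P, s.rt_av, Units.val_mul]
    conj_M := fun v a => by rw [s.conj_M, s.rt_av, mul_inv_rev, Units.val_mul]
    rule := fun x y u hu => by
      have hu' : IsUnit (1 + Red.gaFn (gaPt x : X ⟶ Red.Ga S) * Red.gaFn (gaPt y : X ⟶ Red.Ga S)) := by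
        rw [gaFn_gaPt, gaFn_gaPt, ← hu]; exact u.isUnit
      obtain ⟨x', y', z, hz, hx, hy, h⟩ := s.hF X _ _ hu'
      rw [gaFn_gaPt, gaFn_gaPt, ← hu] at hz
      rw [gaFn_gaPt, hz] at hx hy
      rw [h, gaPt_eq_iff.2 (show Red.gaFn y' = y * ↑u⁻¹ by rw [← hy, mul_assoc, Units.mul_inv, mul_one]),
        gaPt_eq_iff.2 (show Red.gaFn x' = x * ↑u⁻¹ by rw [← hx, mul_assoc, Units.mul_inv, mul_one]),
        show GmPts.ptOfUnit u = z from GmPts.gmFn_injective ((GmPts.gmFn_ptOfUnit u).trans hz.symm),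
        Category.assoc] }

theorem calc'_P (s : Sys i α pp pm av) (x : X ⟶ Red.Ga S) {a : Γ(X.left, ⊤)} (h : Red.gaFn x = a) :
    x ≫ pp = (s.calc' X).P a := by
  change x ≫ pp = gaPt a ≫ pp
  rw [gaPt_eq_iff.2 h]

theorem calc'_M (s : Sys i α pp pm av) (x : X ⟶ Red.Ga S) {a : Γ(X.left, ⊤)} (h : Red.gaFn x = a) :
    x ≫ pm = (s.calc' X).M a := by
  change x ≫ pm = gaPt a ≫ pm
  rw [gaPt_eq_iff.2 h]

theorem calc'_H (s : Sys i α pp pm av) (z : X ⟶ Red.Gm S) {v : (Γ(X.left, ⊤))ˣ} (h : Red.gmFn z = v) :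
    z ≫ av ≫ i = (s.calc' X).H v := by
  change z ≫ av ≫ i = ((GmPts.ptOfUnit v : X ⟶ Red.Gm S) ≫ av) ≫ i
  rw [show GmPts.ptOfUnit v = z from GmPts.gmFn_injective ((GmPts.gmFn_ptOfUnit v).trans h.symm),
    Category.assoc]

/-- Units carried by a point with invertible coordinate. -/
theorem exists_unit_of_neg_one {x x' : X ⟶ Red.Ga S} (h : Red.gaFn x' * Red.gaFn x = -1) :
    ∃ u : (Γ(X.left, ⊤))ˣ, Red.gaFn x = u ∧ Red.gaFn x' = -(↑u⁻¹ : Γ(X.left, ⊤)) :=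
  ⟨⟨Red.gaFn x, -Red.gaFn x', by rw [mul_neg, mul_comm, h, neg_neg], by rw [neg_mul, h, neg_neg]⟩,
    rfl, (neg_neg _).symm⟩

theorem calc'_w (s : Sys i α pp pm av) (x x' : X ⟶ Red.Ga S) (u : (Γ(X.left, ⊤))ˣ) (h : Red.gaFn x = u)
    (h' : Red.gaFn x' = -(↑u⁻¹ : Γ(X.left, ⊤))) :
    (x ≫ pp) * (x' ≫ pm) * (x ≫ pp) = (s.calc' X).w u := by
  rw [Calc.w, s.calc'_P x h, s.calc'_M x' h']

theorem comp_P (s : Sys i α pp pm av) (g : X' ⟶ X) (a : Γ(X.left, ⊤)) :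
    g ≫ (s.calc' X).P a = (s.calc' X').P (g.left.appTop a) := by
  change g ≫ gaPt a ≫ pp = gaPt _ ≫ pp
  rw [← Category.assoc, gaPt_comp]

theorem comp_M (s : Sys i α pp pm av) (g : X' ⟶ X) (a : Γ(X.left, ⊤)) :
    g ≫ (s.calc' X).M a = (s.calc' X').M (g.left.appTop a) := by
  change g ≫ gaPt a ≫ pm = gaPt _ ≫ pm
  rw [← Category.assoc, gaPt_comp]

theorem comp_w (s : Sys i α pp pm av) (g : X' ⟶ X) (v : (Γ(X.left, ⊤))ˣ) :
    g ≫ (s.calc' X).w v = (s.calc' X').w (Units.map g.left.appTop.hom.toMonoidHom v) := by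
  rw [Calc.w, Calc.w, MonObj.comp_mul, MonObj.comp_mul, s.comp_P, s.comp_M, map_neg]
  rfl

end Sys

/-- A flat surjective cover on which a given function `β` splits as a sum of two functions
`c + (β - c)` with `1 + c` and `1 + (β - c)` units. -/
theorem exists_split_cover (X : Over S) (β : Γ(X.left, ⊤)) :
    ∃ (X' : Over S) (g : X' ⟶ X) (c : Γ(X'.left, ⊤)), Epi g ∧
      IsUnit (1 + c) ∧ IsUnit (1 + (g.left.appTop β - c)) := by
  cases subsingleton_or_nontrivial Γ(X.left, ⊤)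
  · exact ⟨X, 𝟙 X, 0, inferInstance, isUnit_of_subsingleton _, isUnit_of_subsingleton _⟩
  let p : Polynomial Γ(X.left, ⊤) :=
    Polynomial.X ^ 2 - (Polynomial.C β * Polynomial.X + Polynomial.C β)
  have hd : (Polynomial.C β * Polynomial.X + Polynomial.C β).degree < 2 :=
    Polynomial.degree_linear_le.trans_lt (by norm_cast)
  have hp : p.Monic := Polynomial.monic_X_pow_sub hd
  haveI : Module.Free Γ(X.left, ⊤) (AdjoinRoot p) := hp.free_adjoinRoot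
  haveI : Nontrivial (AdjoinRoot p) := by
    refine nontrivial_of_ne (1 : AdjoinRoot p) 0 ?_
    rw [← map_one (AdjoinRoot.mk p)]
    refine AdjoinRoot.mk_ne_zero_of_degree_lt hp one_ne_zero ?_
    rw [Polynomial.degree_one, Polynomial.degree_sub_eq_left_of_degree_lt (by rwa [Polynomial.degree_X_pow]),
      Polynomial.degree_X_pow]
    norm_num
  haveI : Module.FaithfullyFlat Γ(X.left, ⊤) (AdjoinRoot p) := inferInstance
  let f := Spec.map (CommRingCat.ofHom (algebraMap Γ(X.left, ⊤) (AdjoinRoot p)))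
  haveI : Flat f := by
    rw [Flat.SpecMap_iff]; exact RingHom.flat_algebraMap_iff.2 inferInstance
  haveI : Surjective f := ⟨PrimeSpectrum.comap_surjective_of_faithfullyFlat⟩
  let Y : Over S := Over.mk (Limits.pullback.fst X.left.toSpecΓ f ≫ X.hom)
  let g : Y ⟶ X := Over.homMk (Limits.pullback.fst X.left.toSpecΓ f)
  haveI : Epi g.left := Flat.epi_of_flat_of_surjective (Limits.pullback.fst X.left.toSpecΓ f)
  have hg : Epi g := (Over.forget S).epi_of_epi_map ‹Epi g.left›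
  let φ : AdjoinRoot p →+* Γ(Y.left, ⊤) :=
    (Limits.pullback.snd X.left.toSpecΓ f).appTop.hom.comp
      (Scheme.ΓSpecIso (CommRingCat.of (AdjoinRoot p))).inv.hom
  have hφ : ∀ r, φ (algebraMap _ _ r) = g.left.appTop r := by
    intro r
    change (Limits.pullback.snd X.left.toSpecΓ f).appTop
      ((Scheme.ΓSpecIso (CommRingCat.of (AdjoinRoot p))).inv (algebraMap _ _ r)) = _
    have h1 : (Scheme.ΓSpecIso (CommRingCat.of (AdjoinRoot p))).inv (algebraMap _ _ r) =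
        f.appTop ((Scheme.ΓSpecIso _).inv r) :=
      congrArg (fun m => (CommRingCat.Hom.hom m) r) (Scheme.ΓSpecIso_inv_naturality (CommRingCat.ofHom (algebraMap Γ(X.left, ⊤) (AdjoinRoot p))))
    have h2 : X.left.toSpecΓ.appTop ((Scheme.ΓSpecIso Γ(X.left, ⊤)).inv r) = r := by
      rw [Scheme.toSpecΓ_appTop, ← CommRingCat.comp_apply, Iso.inv_hom_id]; rfl
    conv_rhs => rw [← h2]
    rw [h1]
    have h3 := congrArg (fun m => m.appTop ((Scheme.ΓSpecIso Γ(X.left, ⊤)).inv r))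
      (Limits.pullback.condition (f := X.left.toSpecΓ) (g := f))
    simp only [Scheme.Hom.comp_appTop, CommRingCat.comp_apply] at h3
    exact h3.symm
  have hroot : (AdjoinRoot.root p + 1) * (1 + (algebraMap _ _ β - AdjoinRoot.root p)) = 1 := by
    have h := AdjoinRoot.eval₂_root p
    simp only [p, Polynomial.eval₂_sub, Polynomial.eval₂_add, Polynomial.eval₂_mul, Polynomial.eval₂_X_pow,
      Polynomial.eval₂_C, Polynomial.eval₂_X] at h
    rw [AdjoinRoot.algebraMap_eq]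
    linear_combination -h
  refine ⟨Y, g, φ (AdjoinRoot.root p), hg, IsUnit.of_mul_eq_one (1 + (g.left.appTop β - φ (AdjoinRoot.root p))) ?_,
    IsUnit.of_mul_eq_one (φ (AdjoinRoot.root p) + 1) ?_⟩
  · rw [← hφ, ← map_one φ, ← map_add, ← map_sub, ← map_add, ← map_mul]
    rw [add_comm (1 : AdjoinRoot p) (AdjoinRoot.root p), hroot]
  · rw [← hφ, ← map_one φ, ← map_add, ← map_sub, ← map_add, ← map_mul]
    rw [mul_comm, hroot]

namespace Sys

variable {G T : Over S} [GrpObj G] [GrpObj T] {i : T ⟶ G} {α : T ⟶ Red.Gm S} {pp pm : Red.Ga S ⟶ G}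
  {av : Red.Gm S ⟶ T}

/-- Conjugation by a Weyl element exchanges the root groups. -/
theorem w_conj_P (s : Sys i α pp pm av) (X : Over S) (x : (Γ(X.left, ⊤))ˣ) (b : Γ(X.left, ⊤)) :
    (s.calc' X).w x * (s.calc' X).P b * ((s.calc' X).w x)⁻¹ = (s.calc' X).M (-(b * ↑x⁻¹ * ↑x⁻¹)) := by
  obtain ⟨X', g, c, hg, hu1, hu2⟩ := exists_split_cover X (b * ↑x⁻¹)
  rw [← cancel_epi g, MonObj.comp_mul, MonObj.comp_mul, GrpObj.comp_inv, s.comp_w, s.comp_P, s.comp_M]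
  obtain ⟨u₁, h1⟩ := hu1
  obtain ⟨u₂, h2⟩ := hu2
  simp only [map_neg, map_mul] at *
  set xu := Units.map g.left.appTop.hom.toMonoidHom x with hxu
  have hxv : g.left.appTop (↑x⁻¹ : Γ(X.left, ⊤)) = ↑xu⁻¹ := by rw [hxu, ← map_inv]; rfl
  rw [hxv] at h2 ⊢
  refine (s.calc' X').w_conj_P_split xu _ (c * xu) (g.left.appTop b - c * xu) (by ring) u₁ u₂ ?_ ?_
  · rw [h1, mul_assoc, Units.mul_inv, mul_one]
  · rw [h2, sub_mul, mul_assoc c, Units.mul_inv, mul_one]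

end Sys

end Groth.Agent.RedR1
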