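import Groth.Agent.RedR1.Cell
import Groth.Agent.RedR1.Pts
import Groth.Agent.MTBridge.ExtCentral
import Groth.Agent.MTBridge.MonoTori
import Groth.Agent.MTBridge.TrivLocus
import Groth.Agent.SmoothRed.Scheme
import Mathlib.FieldTheory.IsAlgClosed.Basic

/-!
# Covers with invertible root values, commutativity
-/

set_option autoImplicit false
set_option linter.style.haveILetI false

universe u

open CategoryTheory MonoidalCategory CartesianMonoidalCategory AlgebraicGeometry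
open scoped CategoryTheory.MonObj CategoryTheory.GrpObj
open Groth.Agent.BGaNotS (gaPt gaFn_gaPt gaPt_ext gaFn_comp gaFn_mul gaFn_one)

noncomputable section

namespace Groth.Agent.RedR1

variable {S : Scheme.{u}} {G T : Over S} [GrpObj G] [GrpObj T] {i : T ⟶ G} {α : T ⟶ Red.Gm S}
  {pp pm : Red.Ga S ⟶ G}

theorem mul_comm_torus (hT : Red.IsTorus T) {X : Over S} (a b : X ⟶ T) : a * b = b * a :=
  MTBridge.comm_points_scheme T
    (MTBridge.locally_of_isMultTypeFT' T (MTBridge.isMultTypeFT_of_isTorus T hT)) a b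

theorem epi_of_flat_surjective {X' X : Over S} (f : X' ⟶ X) [Flat f.left] [Surjective f.left] : Epi f := by
  haveI : Epi f.left := Flat.epi_of_flat_of_surjective f.left
  exact (Over.forget S).epi_of_epi_map ‹Epi f.left›

theorem gmFn_pow {X : Over S} (t : X ⟶ Red.Gm S) (m : ℕ) : Red.gmFn (t ^ m) = Red.gmFn t ^ m := by
  induction m with
  | zero => rw [pow_zero, pow_zero, GmPts.gmFn_one]
  | succ m ih => rw [pow_succ, pow_succ, GmPts.gmFn_mul, ih]

/-- A root of unity in a domain over an algebraically closed field is a constant. -/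
theorem mem_range_of_pow_eq_one {k A : Type*} [Field k] [IsAlgClosed k] [CommRing A] [IsDomain A]
    (φ : k →+* A) {b : A} {m : ℕ} (hm : 0 < m) (hb : b ^ m = 1) : ∃ c, φ c = b := by
  let p : Polynomial k := Polynomial.X ^ m - Polynomial.C 1
  have hp : p.Monic := Polynomial.monic_X_pow_sub_C 1 hm.ne'
  have h := (IsAlgClosed.splits p).eq_prod_roots_of_monic hp
  have h' := congrArg (Polynomial.eval₂ φ b) h
  rw [Polynomial.eval₂_multiset_prod, Multiset.map_map] at h'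
  simp only [p, Polynomial.eval₂_sub, Polynomial.eval₂_X_pow, map_one, Polynomial.eval₂_one, hb, sub_self] at h'
  obtain ⟨c, -, hc⟩ := Multiset.mem_map.1 (Multiset.prod_eq_zero_iff.1 h'.symm)
  exact ⟨c, (sub_eq_zero.1 (by simpa [Function.comp] using hc : b - φ c = 0)).symm⟩

set_option backward.isDefEq.respectTransparency false in
/-- Flat locally there are torus points whose root value has `m`-th power different from `1`. -/
theorem exists_char_cover [IsMonHom i] [IsMonHom α] [IsMonHom pp] [IsMonHom pm]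
    [IsOpenImmersion (cellMap i pp pm).left] (hG : Red.IsReductive G)
    (hα : ∀ s : S, (Over.pullback (Red.geomPt s)).map α ≠ 1) (X : Over S) {m : ℕ} (hm : 0 < m) :
    ∃ (X' : Over S) (f : X' ⟶ X) (t : X' ⟶ T), Flat f.left ∧ Surjective f.left ∧
      LocallyOfFinitePresentation f.left ∧ IsUnit (Red.gmFn (t ≫ α) ^ m - 1) := by
  haveI := hG.2.1
  let Ω : Over S := (Red.Ga S ⊗ T) ⊗ Red.Ga S
  let tp : Ω ⟶ T := fst _ _ ≫ snd _ _
  haveI : IsOpenImmersion (cellMap i pp pm).left := inferInstance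
  haveI : Smooth Ω.hom := by
    rw [← Over.w (cellMap i pp pm)]; infer_instance
  haveI : Smooth (fst X Ω).left := inferInstanceAs (Smooth (Limits.pullback.fst X.hom Ω.hom))
  let a : Γ(Ω.left, ⊤) := Red.gmFn (tp ≫ α) ^ m - 1
  let W : (X ⊗ Ω).left.Opens := (snd X Ω).left ⁻¹ᵁ Ω.left.basicOpen a
  let X' : Over S := Over.mk (W.ι ≫ (X ⊗ Ω).hom)
  let w : X' ⟶ X ⊗ Ω := Over.homMk W.ι
  refine ⟨X', w ≫ fst X Ω, w ≫ snd X Ω ≫ tp, ?_, ?_, ?_, ?_⟩
  · exact inferInstanceAs (Flat (W.ι ≫ (fst X Ω).left))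
  · refine ⟨fun p => ?_⟩
    let s := X.hom p
    let k := AlgebraicClosure (S.residueField s)
    let X0 : Over S := Over.mk (Red.geomPt s)
    haveI := geometricallyIrreducible_of_isReductive hG
    haveI : Smooth (fst X0 G).left := inferInstanceAs (Smooth (Limits.pullback.fst (Red.geomPt s) G.hom))
    haveI : GeometricallyIrreducible (fst X0 G).left :=
      inferInstanceAs (GeometricallyIrreducible (Limits.pullback.fst (Red.geomPt s) G.hom))
    haveI : Subsingleton ↥X0.left := show Subsingleton ↥(Spec (CommRingCat.of k)) from inferInstance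
    haveI : Nonempty ↥X0.left := show Nonempty ↥(Spec (CommRingCat.of k)) from inferInstance
    haveI : IrreducibleSpace ↥(X0 ⊗ G).left :=
      GeometricallyIrreducible.irreducibleSpace_of_subsingleton (fst X0 G).left
    haveI : IsReduced (X0 ⊗ G).left :=
      SmoothRed.isReduced_of_smooth_scheme (R := CommRingCat.of k) (fst X0 G).left
    haveI : IsIntegral (X0 ⊗ G).left := isIntegral_of_irreducibleSpace_of_isReduced _
    haveI : IsOpenImmersion (X0 ◁ cellMap i pp pm).left := by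
      rw [Over.whiskerLeft_left]; infer_instance
    let e0 : X0 ⟶ X0 ⊗ Ω := lift (𝟙 X0) (lift (lift 1 1) 1)
    haveI : Nonempty ↥(X0 ⊗ Ω).left := ⟨e0.left (Classical.arbitrary _)⟩
    haveI : IsIntegral (X0 ⊗ Ω).left := isIntegral_of_isOpenImmersion (X0 ◁ cellMap i pp pm).left
    let b : Γ((X0 ⊗ Ω).left, ⊤) := (snd X0 Ω).left.appTop (Red.gmFn (tp ≫ α))
    have hb : b ^ m - 1 ≠ 0 := by
      intro hb
      let φ : k →+* Γ((X0 ⊗ Ω).left, ⊤) :=
        (fst X0 Ω).left.appTop.hom.comp (Scheme.ΓSpecIso (CommRingCat.of k)).inv.hom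
      obtain ⟨c, hc⟩ := mem_range_of_pow_eq_one φ hm (sub_eq_zero.1 hb)
      have h1 : e0.left.appTop b = 1 := by
        have : e0 ≫ snd X0 Ω ≫ tp ≫ α = 1 := by simp [e0, tp, MonObj.one_comp]
        rw [← GmPts.gmFn_one (T := X0), ← this, GmPts.gmFn_comp, GmPts.gmFn_comp]
      have h2 : e0.left.appTop (φ c) = (Scheme.ΓSpecIso (CommRingCat.of k)).inv c := by
        have : e0 ≫ fst X0 Ω = 𝟙 X0 := by simp [e0]
        change e0.left.appTop ((fst X0 Ω).left.appTop _) = _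
        rw [← CommRingCat.comp_apply, ← Scheme.Hom.comp_appTop, ← Over.comp_left, this]
        rfl
      rw [hc, h1] at h2
      have hc1 : c = 1 := by
        have h3 := congrArg (Scheme.ΓSpecIso (CommRingCat.of k)).hom h2
        rw [map_one, ← CommRingCat.comp_apply, Iso.inv_hom_id] at h3
        exact h3.symm
      rw [hc1, map_one] at hc
      have h4 : snd X0 Ω ≫ tp ≫ α = 1 :=
        GmPts.gmFn_injective (show Red.gmFn (snd X0 Ω ≫ tp ≫ α) = Red.gmFn 1 by
          rw [GmPts.gmFn_comp, GmPts.gmFn_one]; exact hc.symm)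
      have h5 : snd X0 T ≫ α = 1 := by
        have key : lift (fst X0 T) (lift (lift 1 (snd X0 T)) 1) ≫ snd X0 Ω ≫ tp = snd X0 T := by
          rw [show snd X0 Ω ≫ tp = snd X0 ((Red.Ga S ⊗ T) ⊗ Red.Ga S) ≫ fst _ _ ≫ snd _ _ from rfl,
            ← Category.assoc, lift_snd, ← Category.assoc, lift_fst, lift_snd]
        rw [← key, Category.assoc, Category.assoc]
        exact (congrArg (fun f => _ ≫ f) h4).trans (MonObj.comp_one _)
      refine hα s ((MTBridge.map_eq_one_iff α (IsPullback.of_hasPullback (Red.geomPt s) T.hom).flip).2 ?_)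
      have h6 := congrArg (fun f => f.left) h5
      rw [← MonObj.comp_one (snd X0 T)] at h6
      exact h6
    obtain ⟨q0, hq0⟩ : ∃ q0, q0 ∈ (X0 ⊗ Ω).left.basicOpen (b ^ m - 1) := by
      by_contra hne
      push Not at hne
      refine hb ((basicOpen_eq_bot_iff _).1 ?_)
      ext q
      simpa using hne q
    have hq : (snd X0 Ω).left q0 ∈ Ω.left.basicOpen a := by
      have := Scheme.preimage_basicOpen_top (snd X0 Ω).left a
      rw [show (snd X0 Ω).left.appTop a = b ^ m - 1 by simp only [a, b, map_sub, map_pow, map_one]] at this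
      rw [← this] at hq0
      exact hq0
    have hs : Ω.hom ((snd X0 Ω).left q0) = s := by
      rw [← Scheme.Hom.comp_apply, Over.w, ← Over.w (fst X0 Ω), Scheme.Hom.comp_apply]
      exact (Scheme.Hom.comp_apply _ _ _).trans (Scheme.fromSpecResidueField_apply _ _)
    obtain ⟨z, hz1, hz2⟩ := Scheme.Pullback.exists_preimage_pullback p ((snd X0 Ω).left q0) hs.symm
    refine ⟨⟨z, ?_⟩, hz1⟩
    change (snd X Ω).left z ∈ Ω.left.basicOpen a
    exact hz2 ▸ hq
  · exact inferInstanceAs (LocallyOfFinitePresentation (W.ι ≫ (fst X Ω).left))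
  · have h : Red.gmFn ((w ≫ snd X Ω ≫ tp) ≫ α) ^ m - 1 = (w ≫ snd X Ω).left.appTop a := by
      rw [show (w ≫ snd X Ω ≫ tp) ≫ α = (w ≫ snd X Ω) ≫ tp ≫ α by simp, GmPts.gmFn_comp]
      simp [a]
    rw [h]
    refine (X'.left).toRingedSpace.isUnit_of_isUnit_germ ⊤ _ fun q hq => ?_
    refine (Scheme.mem_basicOpen X'.left _ q hq).1 ?_
    rw [← Scheme.preimage_basicOpen_top]
    exact q.2

end Groth.Agent.RedR1

namespace Groth.Agent.RedR1

variable {S : Scheme.{u}} {G T : Over S} [GrpObj G] [GrpObj T] {i : T ⟶ G} {α : T ⟶ Red.Gm S}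
  {pp pm : Red.Ga S ⟶ G}

theorem InCell.of_comp [IsOpenImmersion (cellMap i pp pm).left] {X X' : Over S} (f : X' ⟶ X)
    [Surjective f.left] {g : X ⟶ G} (h : InCell i pp pm (f ≫ g)) : InCell i pp pm g := by
  rw [inCell_iff] at h ⊢
  rintro _ ⟨p, rfl⟩
  obtain ⟨q, rfl⟩ := f.left.surjective p
  exact h ⟨q, rfl⟩

/-- The normalisation hypothesis of the positive root group. -/
abbrev NormP (i : T ⟶ G) (α : T ⟶ Red.Gm S) (pp : Red.Ga S ⟶ G) : Prop :=
  ∀ (X : Over S) (t : X ⟶ T) (x : X ⟶ Red.Ga S), ∃ x' : X ⟶ Red.Ga S,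
    x' ≫ pp = (t ≫ i) * (x ≫ pp) * (t ≫ i)⁻¹ ∧ Red.gaFn x' = Red.gmFn (t ≫ α) * Red.gaFn x

/-- The normalisation hypothesis of the negative root group. -/
abbrev NormM (i : T ⟶ G) (α : T ⟶ Red.Gm S) (pm : Red.Ga S ⟶ G) : Prop :=
  ∀ (X : Over S) (t : X ⟶ T) (y : X ⟶ Red.Ga S), ∃ y' : X ⟶ Red.Ga S,
    y' ≫ pm = (t ≫ i) * (y ≫ pm) * (t ≫ i)⁻¹ ∧ Red.gaFn y' * Red.gmFn (t ≫ α) = Red.gaFn y

theorem NormP.apply (h : NormP i α pp) {X : Over S} (t : X ⟶ T) (a : Γ(X.left, ⊤)) :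
    (t ≫ i) * (gaPt a ≫ pp) * (t ≫ i)⁻¹ = gaPt ((Sys.rt α t : Γ(X.left, ⊤)) * a) ≫ pp := by
  obtain ⟨x', h1, h2⟩ := h X t (gaPt a)
  rw [gaFn_gaPt] at h2
  rw [← h1]
  exact congrArg (· ≫ pp) (gaPt_eq_iff.2 h2).symm

theorem NormM.apply (h : NormM i α pm) {X : Over S} (t : X ⟶ T) (a : Γ(X.left, ⊤)) :
    (t ≫ i) * (gaPt a ≫ pm) * (t ≫ i)⁻¹ = gaPt ((↑(Sys.rt α t)⁻¹ : Γ(X.left, ⊤)) * a) ≫ pm := by
  obtain ⟨y', h1, h2⟩ := h X t (gaPt a)
  rw [gaFn_gaPt] at h2
  have h3 : Red.gaFn y' = (↑(Sys.rt α t)⁻¹ : Γ(X.left, ⊤)) * a := by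
    rw [← h2, mul_comm, mul_assoc]
    exact (congrArg (Red.gaFn y' * ·) (Units.mul_inv (Sys.rt α t))).trans (mul_one _) |>.symm
  rw [← h1]
  exact congrArg (· ≫ pm) (gaPt_eq_iff.2 h3).symm

/-- Conjugating a cell element by a torus element. -/
theorem conj_cell [IsMonHom i] (hP : NormP i α pp) (hM : NormM i α pm) (hT : Red.IsTorus T) {X : Over S}
    (s t : X ⟶ T) (y x : Γ(X.left, ⊤)) :
    (s ≫ i) * ((gaPt y ≫ pm) * (t ≫ i) * (gaPt x ≫ pp)) * (s ≫ i)⁻¹ =
      (gaPt ((↑(Sys.rt α s)⁻¹ : Γ(X.left, ⊤)) * y) ≫ pm) * (t ≫ i) *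
        (gaPt ((Sys.rt α s : Γ(X.left, ⊤)) * x) ≫ pp) := by
  have hc : (s ≫ i) * (t ≫ i) = (t ≫ i) * (s ≫ i) := by
    rw [← MonObj.mul_comp, ← MonObj.mul_comp, mul_comm_torus hT]
  rw [← hP.apply, ← hM.apply]
  calc (s ≫ i) * ((gaPt y ≫ pm) * (t ≫ i) * (gaPt x ≫ pp)) * (s ≫ i)⁻¹
      = (s ≫ i) * (gaPt y ≫ pm) * (s ≫ i)⁻¹ * ((s ≫ i) * (t ≫ i)) * ((gaPt x ≫ pp) * (s ≫ i)⁻¹) := by group
    _ = _ := by rw [hc]; group

/-- A cell element fixed by a torus element with a root value `a`, `a - 1` invertible, lies in the torus. -/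
theorem torus_of_fixed [IsMonHom i] [IsMonHom pp] [IsMonHom pm] [IsOpenImmersion (cellMap i pp pm).left]
    (hP : NormP i α pp) (hM : NormM i α pm) (hT : Red.IsTorus T) {X : Over S} (s t : X ⟶ T)
    (y x : X ⟶ Red.Ga S) (hu : IsUnit ((Sys.rt α s : Γ(X.left, ⊤)) - 1))
    (h : (s ≫ i) * ((y ≫ pm) * (t ≫ i) * (x ≫ pp)) = (y ≫ pm) * (t ≫ i) * (x ≫ pp) * (s ≫ i)) :
    y = 1 ∧ x = 1 := by
  have h' := conj_cell hP hM hT s t (Red.gaFn y) (Red.gaFn x)
  rw [gaPt_gaFn, gaPt_gaFn, h, mul_inv_cancel_right] at h'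
  obtain ⟨hy, -, hx⟩ := cell_inj h'
  have hy' := congrArg Red.gaFn hy
  have hx' := congrArg Red.gaFn hx
  rw [gaFn_gaPt] at hy' hx'
  refine ⟨gaPt_ext ?_, gaPt_ext ?_⟩ <;> rw [gaFn_one] <;> refine hu.mul_right_eq_zero.1 ?_
  · linear_combination (Sys.rt α s : Γ(X.left, ⊤)) * hy' + Red.gaFn y * Units.mul_inv (Sys.rt α s)
  · linear_combination -hx'

/-- Two points commute if one commutes with the cell. -/
theorem commute_of_cell [IsMonHom i] [IsMonHom pp] [IsMonHom pm] [IsOpenImmersion (cellMap i pp pm).left]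
    (hG : Red.IsReductive G) {X : Over S} (g k : X ⟶ G)
    (h : ∀ (X' : Over S) (f : X' ⟶ X) (c : X' ⟶ G), InCell i pp pm c → Commute (f ≫ g) c) : Commute g k := by
  obtain ⟨X', f, c, hf, hs, -, hc, hck⟩ := exists_translate (i := i) (pp := pp) (pm := pm) hG ![k]
  haveI := epi_of_flat_surjective f
  have h2 : Commute (f ≫ g) (f ≫ k) := by
    have := (h X' f c hc).inv_right.mul_right (h X' f _ (hck 0))
    simpa using this
  rw [Commute, SemiconjBy] at h2 ⊢
  rw [← cancel_epi f, MonObj.comp_mul, MonObj.comp_mul]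
  exact h2

end Groth.Agent.RedR1
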