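import Groth.Agent.BGaNotS.GaPts
import Groth.Agent.MTBridge.Prim
import Groth.Agent.MTBridge.MonoTori
import Groth.Agent.TorusKilled.Basic
import Mathlib.AlgebraicGeometry.AffineSpace

/-!
# The additive group as the affine line
-/

set_option autoImplicit false
set_option linter.style.haveILetI false

universe u

open CategoryTheory MonoidalCategory CartesianMonoidalCategory AlgebraicGeometry
open scoped CategoryTheory.MonObj
open Groth.Agent.BGaNotS (gaPt gaFn_gaPt gaPt_ext gaFn_comp)

noncomputable section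

namespace Groth.Agent.RedR1

variable (S : Scheme.{u})

/-- `𝔾_a` is the affine line. -/
def gaIso : Over.mk (𝔸(PUnit.{u + 1}; S) ↘ S) ≅ Red.Ga S where
  hom := gaPt (W := Over.mk (𝔸(PUnit.{u + 1}; S) ↘ S)) (AffineSpace.coord S PUnit.unit)
  inv := Over.homMk (AffineSpace.homOfVector (Red.Ga S).hom fun _ => Red.gaFn (𝟙 (Red.Ga S)))
    (AffineSpace.homOfVector_over _ _)
  hom_inv_id := by
    refine Over.OverMorphism.ext (AffineSpace.hom_ext ?_ fun i => ?_)
    · change ((gaPt (W := Over.mk (𝔸(PUnit.{u + 1}; S) ↘ S)) _).left ≫ AffineSpace.homOfVector _ _) ≫ _ = _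
      rw [Category.assoc, AffineSpace.homOfVector_over]
      exact (Over.w (gaPt (W := Over.mk (𝔸(PUnit.{u + 1}; S) ↘ S)) (AffineSpace.coord S PUnit.unit))).trans (Category.id_comp _).symm
    · simp only [Over.comp_left, Over.homMk_left, Scheme.Hom.comp_appTop, CommRingCat.comp_apply,
        AffineSpace.homOfVector_appTop_coord]
      rw [← gaFn_comp, Category.comp_id, gaFn_gaPt]
      rfl
  inv_hom_id := by
    refine gaPt_ext ?_
    rw [gaFn_comp, gaFn_gaPt]
    exact AffineSpace.homOfVector_appTop_coord _ _ _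

/-- The base change of `𝔾_a`. -/
def gaBC {S' : Scheme.{u}} (g : S' ⟶ S) : Grp.mk (Red.bc g (Red.Ga S)) ≅ Grp.mk (Red.Ga S') :=
  (MTBridge.bcComp (Limits.IsTerminal.from specULiftZIsTerminal S) g Red.GaZ).symm ≪≫
    MTBridge.bcCongr (specULiftZIsTerminal.hom_ext _ _) Red.GaZ

theorem smooth_ga (k : Type u) [Field k] : Smooth (Red.Ga (Spec (CommRingCat.of k))).hom := by
  haveI : MorphismProperty.RespectsIso @Smooth.{u} :=
    HasRingHomProperty.eq_affineLocally (P := @Smooth.{u}) ▸ affineLocally_respectsIso (P := RingHom.Smooth) RingHom.Smooth.propertyIsLocal.respectsIso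
  have hs : Smooth (𝔸(PUnit.{u + 1}; Spec (CommRingCat.of k)) ↘ Spec (CommRingCat.of k)) := by
    rw [← MorphismProperty.cancel_left_of_respectsIso @Smooth.{u} (AffineSpace.SpecIso PUnit.{u + 1} (CommRingCat.of k)).inv,
      AffineSpace.SpecIso_inv_over, HasRingHomProperty.Spec_iff (P := @Smooth)]
    exact RingHom.smooth_algebraMap.2 (show Algebra.Smooth k (MvPolynomial PUnit.{u + 1} k) from ⟨inferInstance, inferInstance⟩)
  rw [← Over.w (gaIso (Spec (CommRingCat.of k))).inv]
  haveI : IsIso (gaIso (Spec (CommRingCat.of k))).inv.left :=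
    inferInstanceAs (IsIso ((Over.forget _).map (gaIso (Spec (CommRingCat.of k))).inv))
  rw [MorphismProperty.cancel_left_of_respectsIso @Smooth.{u}]
  exact hs

theorem connectedSpace_ga (k : Type u) [Field k] : ConnectedSpace (Red.Ga (Spec (CommRingCat.of k))).left := by
  let e := (Over.forget _).mapIso (gaIso (Spec (CommRingCat.of k)))
  haveI : ConnectedSpace 𝔸(PUnit.{u + 1}; Spec (CommRingCat.of k)) := inferInstance
  haveI : ConnectedSpace ↥((Over.forget (Spec (CommRingCat.of k))).obj
      (Over.mk (𝔸(PUnit.{u + 1}; Spec (CommRingCat.of k)) ↘ Spec (CommRingCat.of k)))) :=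
    ‹ConnectedSpace 𝔸(PUnit.{u + 1}; Spec (CommRingCat.of k))›
  exact Function.Surjective.connectedSpace
    (f := e.hom) e.hom.homeomorph.surjective (Scheme.Hom.continuous _)

theorem hasNoSubtorus_bc_ga {k : Type u} [Field k] [Infinite k] (g : Spec (CommRingCat.of k) ⟶ S) :
    Red.HasNoSubtorus k (Red.bc g (Red.Ga S)) := by
  intro T _ j hj _ hT
  let e := gaBC S g
  haveI : IsMonHom j := hj
  haveI : IsIso e.hom.hom.hom := inferInstanceAs (IsIso ((Grp.forget _).map e.hom))
  have h1 : j ≫ e.hom.hom.hom = 1 :=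
    MTBridge.eq_one_Ga _ T (MTBridge.isMultTypeFT_of_isTorus T hT) (j ≫ e.hom.hom.hom)
  refine TorusKilled.isTrivial T hT one_pos ?_
  have hj1 : j = 1 := by rw [← cancel_mono e.hom.hom.hom, h1]; exact (MonObj.one_comp e.hom.hom.hom).symm
  rw [pow_one, ← cancel_mono j, Category.id_comp, hj1, MonObj.comp_one]

end Groth.Agent.RedR1
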