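import Groth.Agent.RedR1.Invert
import Mathlib.AlgebraicGeometry.Sites.Fpqc

/-!
# Homomorphisms out of a rank-one system
-/

set_option autoImplicit false
set_option linter.style.haveILetI false

universe u

open CategoryTheory MonoidalCategory CartesianMonoidalCategory AlgebraicGeometry
open scoped CategoryTheory.MonObj CategoryTheory.GrpObj
open Groth.Agent.BGaNotS (gaPt gaFn_gaPt gaPt_ext gaFn_comp gaFn_mul gaFn_one)

noncomputable section

namespace Groth.Agent.RedR1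

variable {S : Scheme.{u}} {G T : Over S} [GrpObj G] [GrpObj T] {i : T ⟶ G} {α : T ⟶ Red.Gm S}
  {pp pm : Red.Ga S ⟶ G} {av : Red.Gm S ⟶ T}

theorem InCell.left_M [IsMonHom i] [IsMonHom pp] [IsMonHom pm] {X : Over S} {g : X ⟶ G} (a : X ⟶ Red.Ga S)
    (h : InCell i pp pm g) : InCell i pp pm ((a ≫ pm) * g) := by
  obtain ⟨y, t, x, rfl⟩ := h
  exact ⟨a * y, t, x, by rw [MonObj.mul_comp]; group⟩

theorem InCell.right_P [IsMonHom i] [IsMonHom pp] [IsMonHom pm] {X : Over S} {g : X ⟶ G} (a : X ⟶ Red.Ga S)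
    (h : InCell i pp pm g) : InCell i pp pm (g * (a ≫ pp)) := by
  obtain ⟨y, t, x, rfl⟩ := h
  exact ⟨y, t, x * a, by rw [MonObj.mul_comp]; group⟩

/-- A Weyl element does not lie in the cell. -/
theorem Sys.w_not_inCell (s : Sys i α pp pm av) [IsOpenImmersion (cellMap i pp pm).left] (hT : Red.IsTorus T)
    {X : Over S} (hv : ∃ v : (Γ(X.left, ⊤))ˣ, (v : Γ(X.left, ⊤)) ^ 4 ≠ 1) (a : (Γ(X.left, ⊤))ˣ) :
    ¬ InCell i pp pm ((s.calc' X).w a) := by
  haveI := s.hi; haveI := s.hpph; haveI := s.hpmh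
  rintro ⟨y, t, x, hw⟩
  obtain ⟨e, he⟩ := hv
  set C := s.calc' X with hC
  -- conjugate the cell element by the coroot
  have hc := conj_cell (fun X t x => s.hpp X t x) (fun X t y => s.hpm X t y) hT (GmPts.ptOfUnit e ≫ av) t
    (Red.gaFn y) (Red.gaFn x)
  rw [gaPt_gaFn, gaPt_gaFn, ← hw] at hc
  change C.H e * C.w a * (C.H e)⁻¹ = _ at hc
  have h1 : C.H e * C.w a * (C.H e)⁻¹ = C.H (e * e) * C.w a := by
    have h0 := C.w_conj_H a e⁻¹
    rw [C.H_inv, inv_inv] at h0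
    rw [C.H_mul]
    calc C.H e * C.w a * (C.H e)⁻¹ = C.H e * (C.w a * (C.H e)⁻¹ * (C.w a)⁻¹) * C.w a := by group
      _ = _ := by rw [h0]
  rw [h1, hw] at hc
  have h2 : C.H (e * e) * ((y ≫ pm) * (t ≫ i) * (x ≫ pp)) =
      (gaPt ((↑(rt α (GmPts.ptOfUnit (e * e) ≫ av))⁻¹ : Γ(X.left, ⊤)) * Red.gaFn y) ≫ pm) *
        (((GmPts.ptOfUnit (e * e) ≫ av) * t) ≫ i) * (x ≫ pp) := by
    rw [MonObj.mul_comp]
    change _ = _ * (C.H (e * e) * _) * _
    have h3 : C.H (e * e) * (y ≫ pm) * (C.H (e * e))⁻¹ = _ :=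
      (congrArg (fun w => C.H (e * e) * (w ≫ pm) * (C.H (e * e))⁻¹) (gaPt_gaFn y).symm).trans
        (s.conj_M (GmPts.ptOfUnit (e * e) ≫ av) (Red.gaFn y))
    rw [← h3]
    group
  rw [h2] at hc
  obtain ⟨-, ht, -⟩ := cell_inj hc
  rw [mul_eq_right] at ht
  have hH : C.H (e * e) = 1 := by
    change (GmPts.ptOfUnit (e * e) ≫ av) ≫ i = 1
    rw [ht, MonObj.one_comp]
  have h5 : C.P ((((e * e : (Γ(X.left, ⊤))ˣ) : Γ(X.left, ⊤)) * ↑(e * e)) * 1) = C.P 1 := by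
    rw [← C.conj_P, hH]; group
  have h7 := cell_inj (i := i) (pp := pp) (pm := pm) (y := (1 : X ⟶ Red.Ga S)) (y' := 1) (t := 1) (t' := 1)
    (x := gaPt ((((e * e : (Γ(X.left, ⊤))ˣ) : Γ(X.left, ⊤)) * ↑(e * e)) * 1)) (x' := gaPt 1)
    (congrArg (fun w => ((1 : X ⟶ Red.Ga S) ≫ pm) * ((1 : X ⟶ T) ≫ i) * w) h5)
  have h8 := congrArg Red.gaFn h7.2.2
  rw [gaFn_gaPt, gaFn_gaPt, mul_one, ← Units.val_mul, ← mul_assoc] at h8
  exact he (by rw [← Units.val_pow_eq_pow_val, show e ^ 4 = e * e * e * e by simp [pow_succ], h8])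

/-- `P x * M y` lies in the cell only if `1 + x y` is invertible. -/
theorem Sys.isUnit_of_inCell (s : Sys i α pp pm av) [IsOpenImmersion (cellMap i pp pm).left] (hT : Red.IsTorus T)
    {X : Over S} (a b : Γ(X.left, ⊤)) (h : InCell i pp pm ((s.calc' X).P a * (s.calc' X).M b)) :
    IsUnit (1 + a * b) := by
  haveI := s.hi; haveI := s.hpph; haveI := s.hpmh
  refine X.left.toRingedSpace.isUnit_of_isUnit_germ ⊤ _ fun p hp => ?_
  refine (Scheme.mem_basicOpen X.left _ p hp).1 ?_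
  by_contra hmem
  obtain ⟨X', f, hf, ⟨z⟩, hfield, hv⟩ := exists_geom_point X p
  have h' := h.comp f
  rw [MonObj.comp_mul, s.comp_P, s.comp_M] at h'
  set C := s.calc' X'
  set a' := f.left.appTop a
  set b' := f.left.appTop b
  rcases hfield (1 + a' * b') with h0 | h0
  · have ha : IsUnit a' := IsUnit.of_mul_eq_one (-b') (by linear_combination -h0)
    obtain ⟨u, hu⟩ := ha
    have hb : b' = -(↑u⁻¹ : Γ(X'.left, ⊤)) := by
      rw [← hu] at h0
      linear_combination (↑u⁻¹ : Γ(X'.left, ⊤)) * h0 - b' * Units.inv_mul u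
    rw [← hu, hb] at h'
    refine s.w_not_inCell hT ?_ u (h'.right_P (gaPt (u : Γ(X'.left, ⊤))))
    obtain ⟨v, hv⟩ := hv 4 (by norm_num)
    exact ⟨v, hv⟩
  · have hz : z ∈ X'.left.basicOpen (f.left.appTop (1 + a * b)) := by
      rw [map_add, map_one, map_mul, X'.left.basicOpen_of_isUnit h0]; trivial
    rw [← Scheme.preimage_basicOpen_top] at hz
    exact hmem (hf z ▸ hz)

/-- The value of the extension on a cell point. -/
def Val {H : Over S} [GrpObj H] (i : T ⟶ G) (pp pm : Red.Ga S ⟶ G) (fT : T ⟶ H) (fP fM : Red.Ga S ⟶ H)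
    {X : Over S} (g : X ⟶ G) (v : X ⟶ H) : Prop :=
  ∃ (y : X ⟶ Red.Ga S) (t : X ⟶ T) (x : X ⟶ Red.Ga S),
    g = (y ≫ pm) * (t ≫ i) * (x ≫ pp) ∧ v = (y ≫ fM) * (t ≫ fT) * (x ≫ fP)

section val

variable {H : Over S} [GrpObj H] {fT : T ⟶ H} {fP fM : Red.Ga S ⟶ H} {X X' : Over S} {g g' : X ⟶ G}
  {v v' : X ⟶ H}

theorem Val.inCell (h : Val i pp pm fT fP fM g v) : InCell i pp pm g := by
  obtain ⟨y, t, x, hg, -⟩ := h; exact ⟨y, t, x, hg⟩

theorem exists_val (h : InCell i pp pm g) : ∃ v : X ⟶ H, Val i pp pm fT fP fM g v := by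
  obtain ⟨y, t, x, hg⟩ := h; exact ⟨_, y, t, x, hg, rfl⟩

theorem Val.unique [IsOpenImmersion (cellMap i pp pm).left] (h : Val i pp pm fT fP fM g v)
    (h' : Val i pp pm fT fP fM g v') : v = v' := by
  obtain ⟨y, t, x, hg, rfl⟩ := h
  obtain ⟨y', t', x', hg', rfl⟩ := h'
  obtain ⟨rfl, rfl, rfl⟩ := cell_inj (hg.symm.trans hg')
  rfl

theorem Val.comp (f : X' ⟶ X) (h : Val i pp pm fT fP fM g v) : Val i pp pm fT fP fM (f ≫ g) (f ≫ v) := by
  obtain ⟨y, t, x, rfl, rfl⟩ := h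
  exact ⟨f ≫ y, f ≫ t, f ≫ x, by simp [MonObj.comp_mul, Category.assoc],
    by simp [MonObj.comp_mul, Category.assoc]⟩

end val

section build

variable {H : Over S} [GrpObj H] {fT : T ⟶ H} {fP fM : Red.Ga S ⟶ H}

/-- The extension is multiplicative on the cell. -/
theorem Sys.val_mul (s : Sys i α pp pm av) (sH : Sys fT α fP fM av) [IsOpenImmersion (cellMap i pp pm).left]
    (hT : Red.IsTorus T) {X : Over S} {g g' : X ⟶ G} {v v' : X ⟶ H} (h : Val i pp pm fT fP fM g v)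
    (h' : Val i pp pm fT fP fM g' v') (hmul : InCell i pp pm (g * g')) :
    Val i pp pm fT fP fM (g * g') (v * v') := by
  haveI := s.hi; haveI := s.hpph; haveI := s.hpmh
  haveI := sH.hi; haveI := sH.hpph; haveI := sH.hpmh
  obtain ⟨y, t, x, rfl, rfl⟩ := h
  obtain ⟨y', t', x', rfl, rfl⟩ := h'
  obtain ⟨u, hu⟩ : IsUnit (1 + Red.gaFn x * Red.gaFn y') := by
    have hcell : InCell i pp pm ((x ≫ pp) * (y' ≫ pm)) := by
      obtain ⟨y₂, t₂, x₂, h2⟩ := hmul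
      have e : (x ≫ pp) * (y' ≫ pm) =
          (t ≫ i)⁻¹ * ((y ≫ pm)⁻¹ * (y₂ ≫ pm) * (t₂ ≫ i) * ((x₂ ≫ pp) * (x' ≫ pp)⁻¹)) * (t' ≫ i)⁻¹ := by
        calc (x ≫ pp) * (y' ≫ pm) = (t ≫ i)⁻¹ * ((y ≫ pm)⁻¹ * (((y ≫ pm) * (t ≫ i) * (x ≫ pp)) *
              ((y' ≫ pm) * (t' ≫ i) * (x' ≫ pp))) * (x' ≫ pp)⁻¹) * (t' ≫ i)⁻¹ := by group
          _ = _ := by rw [h2]; group
      rw [e]
      have eM := s.conj_M t⁻¹ (Red.gaFn (y⁻¹ * y₂))
      have eP := (s.calc' X).P_mul_of_conj (g := t'⁻¹ ≫ i) (fun b => s.conj_P t'⁻¹ b) (Red.gaFn (x₂ * x'⁻¹))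
      rw [gaPt_gaFn, GrpObj.inv_comp, inv_inv] at eM
      rw [← s.calc'_P _ rfl, GrpObj.inv_comp] at eP
      refine ⟨gaPt ((↑(rt α t⁻¹)⁻¹ : Γ(X.left, ⊤)) * Red.gaFn (y⁻¹ * y₂)), t⁻¹ * t₂ * t'⁻¹,
        gaPt ((↑(rt α t'⁻¹)⁻¹ : Γ(X.left, ⊤)) * Red.gaFn (x₂ * x'⁻¹)), ?_⟩
      rw [← eM, MonObj.mul_comp (t⁻¹ * t₂), MonObj.mul_comp t⁻¹, GrpObj.inv_comp, GrpObj.inv_comp]
      change _ = _ * (s.calc' X).P _
      simp only [MonObj.mul_comp, GrpObj.inv_comp] at *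
      calc _ = (t ≫ i)⁻¹ * ((y ≫ pm)⁻¹ * (y₂ ≫ pm)) * (t₂ ≫ i) * (((x₂ ≫ pp) * (x' ≫ pp)⁻¹) * (t' ≫ i)⁻¹) := by group
        _ = _ := by rw [eP]; group
    rw [s.calc'_P x rfl, s.calc'_M y' rfl] at hcell
    exact s.isUnit_of_inCell hT _ _ hcell
  set y₂ := Red.gaFn y + Red.gaFn y' * ↑u⁻¹ * ↑(rt α t)⁻¹
  set x₂ := Red.gaFn x * ↑u⁻¹ * ↑(rt α t')⁻¹ + Red.gaFn x'
  refine ⟨gaPt y₂, t * (GmPts.ptOfUnit u ≫ av) * t', gaPt x₂, ?_, ?_⟩
  · rw [s.calc'_P x rfl, s.calc'_M y rfl, s.calc'_P x' rfl, s.calc'_M y' rfl,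
      (s.calc' X).cell_mul_cell (a := rt α t) (a' := rt α t') (fun b => s.conj_M t b) (fun b => s.conj_P t' b)
        _ _ _ _ u hu, MonObj.mul_comp, MonObj.mul_comp]
    rfl
  · rw [sH.calc'_P x rfl, sH.calc'_M y rfl, sH.calc'_P x' rfl, sH.calc'_M y' rfl,
      (sH.calc' X).cell_mul_cell (a := rt α t) (a' := rt α t') (fun b => sH.conj_M t b) (fun b => sH.conj_P t' b)
        _ _ _ _ u hu, MonObj.mul_comp, MonObj.mul_comp]
    rfl

/-- The graph of the homomorphism to be built. -/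
def IsVal (i : T ⟶ G) (pp pm : Red.Ga S ⟶ G) (fT : T ⟶ H) (fP fM : Red.Ga S ⟶ H)
    {X : Over S} (g : X ⟶ G) (F : X ⟶ H) : Prop :=
  ∀ (X' : Over S) (f : X' ⟶ X) (e : X' ⟶ G) (v w : X' ⟶ H),
    Val i pp pm fT fP fM e v → Val i pp pm fT fP fM (e * (f ≫ g)) w → f ≫ F = v⁻¹ * w

theorem IsVal.comp {X X' : Over S} (f : X' ⟶ X) {g : X ⟶ G} {F : X ⟶ H} (h : IsVal i pp pm fT fP fM g F) :
    IsVal i pp pm fT fP fM (f ≫ g) (f ≫ F) := fun X'' f' e v w hv hw => by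
  rw [← Category.assoc] at hw ⊢
  exact h X'' (f' ≫ f) e v w hv hw

/-- Two admissible evaluations agree. -/
theorem Sys.val_consistent (s : Sys i α pp pm av) (sH : Sys fT α fP fM av)
    [IsOpenImmersion (cellMap i pp pm).left] (hG : Red.IsReductive G) (hT : Red.IsTorus T) {X : Over S}
    (g : X ⟶ G) {c c' : X ⟶ G} {v w v' w' : X ⟶ H} (hv : Val i pp pm fT fP fM c v)
    (hw : Val i pp pm fT fP fM (c * g) w) (hv' : Val i pp pm fT fP fM c' v')
    (hw' : Val i pp pm fT fP fM (c' * g) w') : v⁻¹ * w = v'⁻¹ * w' := by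
  haveI := s.hi; haveI := s.hpph; haveI := s.hpmh
  obtain ⟨X', f, e, hf, hs, -, he, hej⟩ := exists_translate (i := i) (pp := pp) (pm := pm) hG ![c⁻¹, c'⁻¹, g]
  haveI := epi_of_flat_surjective f
  have key : ∀ {c : X ⟶ G} {v w : X ⟶ H}, InCell i pp pm (e * (f ≫ c⁻¹)) → Val i pp pm fT fP fM c v →
      Val i pp pm fT fP fM (c * g) w → ∀ ve we, Val i pp pm fT fP fM e ve →
      Val i pp pm fT fP fM (e * (f ≫ g)) we → f ≫ (v⁻¹ * w) = ve⁻¹ * we := by
    intro c v w ha hv hw ve we hve hwe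
    obtain ⟨va, hva⟩ := exists_val (fT := fT) (fP := fP) (fM := fM) ha
    have hprod1 : e * (f ≫ c⁻¹) * (f ≫ c) = e := by rw [GrpObj.comp_inv, inv_mul_cancel_right]
    have hprod2 : e * (f ≫ c⁻¹) * (f ≫ (c * g)) = e * (f ≫ g) := by
      rw [MonObj.comp_mul, ← mul_assoc, hprod1]
    have h1 := s.val_mul sH hT hva (hv.comp f) (by rw [hprod1]; exact hve.inCell)
    have h2 := s.val_mul sH hT hva (hw.comp f) (by rw [hprod2]; exact hwe.inCell)
    rw [hprod1] at h1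
    rw [hprod2] at h2
    rw [hve.unique h1, hwe.unique h2, MonObj.comp_mul, GrpObj.comp_inv]
    group
  obtain ⟨ve, hve⟩ := exists_val (fT := fT) (fP := fP) (fM := fM) he
  obtain ⟨we, hwe⟩ := exists_val (fT := fT) (fP := fP) (fM := fM) (hej 2)
  rw [← cancel_epi f, key (hej 0) hv hw ve we hve hwe, key (hej 1) hv' hw' ve we hve hwe]

/-- **Extension of homomorphisms from the cell.** -/
theorem Sys.exists_hom (s : Sys i α pp pm av) (sH : Sys fT α fP fM av) [IsOpenImmersion (cellMap i pp pm).left]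
    (hG : Red.IsReductive G) (hT : Red.IsTorus T) :
    ∃ f : G ⟶ H, IsMonHom f ∧ i ≫ f = fT ∧ pp ≫ f = fP ∧ pm ≫ f = fM := by
  haveI := s.hi; haveI := s.hpph; haveI := s.hpmh
  haveI := sH.hi; haveI := sH.hpph; haveI := sH.hpmh
  obtain ⟨X', f, c, hf, hs, hl, hc, hd⟩ := exists_translate (i := i) (pp := pp) (pm := pm) hG ![𝟙 G]
  obtain ⟨v, hv⟩ := exists_val (fT := fT) (fP := fP) (fM := fM) hc
  obtain ⟨w, hw⟩ := exists_val (fT := fT) (fP := fP) (fM := fM) (hd 0)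
  change Val i pp pm fT fP fM (c * (f ≫ 𝟙 G)) w at hw
  rw [Category.comp_id] at hw
  set F' := v⁻¹ * w
  have hdesc : ∀ {Z : Scheme.{u}} (a b : Z ⟶ X'.left), a ≫ f.left = b ≫ f.left → a ≫ F'.left = b ≫ F'.left := by
    intro Z a b hab
    let Z' : Over S := Over.mk (a ≫ X'.hom)
    let a' : Z' ⟶ X' := Over.homMk a
    let b' : Z' ⟶ X' := Over.homMk b (by
      rw [← Over.w f, ← Category.assoc, ← hab, Category.assoc, Over.w f]; rfl)
    have hab' : a' ≫ f = b' ≫ f := Over.OverMorphism.ext hab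
    have h1 := hv.comp a'
    have h2 := hw.comp a'
    have h3 := hv.comp b'
    have h4 := hw.comp b'
    rw [MonObj.comp_mul] at h2 h4
    have := s.val_consistent sH hG hT (a' ≫ f) h1 h2 h3 (hab' ▸ h4)
    have e : a' ≫ F' = b' ≫ F' := by
      simp only [F', MonObj.comp_mul, GrpObj.comp_inv]; exact this
    exact congrArg (fun m => m.left) e
  let F : G ⟶ H := Over.homMk (EffectiveEpi.desc f.left F'.left hdesc) (by
    haveI : Epi f.left := Flat.epi_of_flat_of_surjective f.left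
    rw [← cancel_epi f.left, ← Category.assoc, EffectiveEpi.fac f.left F'.left hdesc, Over.w, Over.w])
  have hF : f ≫ F = F' := Over.OverMorphism.ext (EffectiveEpi.fac f.left F'.left hdesc)
  haveI := epi_of_flat_surjective f
  have hIs : IsVal i pp pm fT fP fM (𝟙 G) F := by
    intro X₁ a e ve we hve hwe
    rw [Category.comp_id] at hwe
    -- compare on the cover pulled back to `X₁`
    let q := Limits.pullback.fst a.left f.left
    let X₂ : Over S := Over.mk (q ≫ X₁.hom)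
    let q₁ : X₂ ⟶ X₁ := Over.homMk q
    let q₂ : X₂ ⟶ X' := Over.homMk (Limits.pullback.snd a.left f.left) (by
      change _ ≫ X'.hom = q ≫ X₁.hom
      rw [← Over.w f, ← Over.w a, ← Category.assoc, ← Category.assoc, Limits.pullback.condition])
    have hq : q₁ ≫ a = q₂ ≫ f := Over.OverMorphism.ext Limits.pullback.condition
    haveI : Flat q₁.left := inferInstanceAs (Flat (Limits.pullback.fst a.left f.left))
    haveI : Surjective q₁.left := inferInstanceAs (Surjective (Limits.pullback.fst a.left f.left))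
    haveI := epi_of_flat_surjective q₁
    rw [← cancel_epi q₁, ← Category.assoc, hq, Category.assoc, hF]
    have h2 := hwe.comp q₁
    rw [MonObj.comp_mul, hq] at h2
    have h4 := hw.comp q₂
    rw [MonObj.comp_mul] at h4
    have := s.val_consistent sH hG hT (q₂ ≫ f) (hv.comp q₂) h4 (hve.comp q₁) h2
    simp only [F', MonObj.comp_mul, GrpObj.comp_inv]
    exact this
  have hval : ∀ {X : Over S} (g : X ⟶ G), IsVal i pp pm fT fP fM g (g ≫ F) := fun g => by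
    have := hIs.comp g
    rwa [Category.comp_id] at this
  have hcell : ∀ {X : Over S} (g : X ⟶ G) (v : X ⟶ H), Val i pp pm fT fP fM g v → g ≫ F = v := fun {X} g v hg => by
    have h1 : Val i pp pm fT fP fM (1 : X ⟶ G) 1 := ⟨1, 1, 1,
      by rw [MonObj.one_comp, MonObj.one_comp, MonObj.one_comp, one_mul, one_mul],
      by rw [MonObj.one_comp, MonObj.one_comp, MonObj.one_comp, one_mul, one_mul]⟩
    have := hval g X (𝟙 X) 1 1 v h1 (by rwa [Category.id_comp, one_mul])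
    rwa [Category.id_comp, inv_one, one_mul] at this
  have hmul : ∀ {X : Over S} (g h : X ⟶ G), (g * h) ≫ F = (g ≫ F) * (h ≫ F) := fun {X} g h => by
    obtain ⟨X₁, a, e, hf₁, hs₁, -, he, hej⟩ := exists_translate (i := i) (pp := pp) (pm := pm) hG ![g, g * h]
    haveI := epi_of_flat_surjective a
    obtain ⟨ve, hve⟩ := exists_val (fT := fT) (fP := fP) (fM := fM) he
    obtain ⟨v1, hv1⟩ := exists_val (fT := fT) (fP := fP) (fM := fM) (hej 0)
    obtain ⟨v2, hv2⟩ := exists_val (fT := fT) (fP := fP) (fM := fM) (hej 1)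
    have e1 : a ≫ g ≫ F = ve⁻¹ * v1 := hval g X₁ a e ve v1 hve hv1
    have e2 : a ≫ (g * h) ≫ F = ve⁻¹ * v2 := hval (g * h) X₁ a e ve v2 hve hv2
    have e3 : a ≫ h ≫ F = v1⁻¹ * v2 := hval h X₁ a _ v1 v2 hv1 (by
      have hv2' : Val i pp pm fT fP fM (e * (a ≫ (g * h))) v2 := hv2
      rw [MonObj.comp_mul, ← mul_assoc] at hv2'
      exact hv2')
    rw [← cancel_epi a, MonObj.comp_mul, e1, e2, e3]
    group
  refine ⟨F, MTBridge.isMonHom_of_points F fun X x y => hmul x y, ?_, ?_, ?_⟩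
  · exact hcell i fT ⟨1, 𝟙 T, 1, by rw [MonObj.one_comp, MonObj.one_comp, one_mul, mul_one, Category.id_comp],
      by rw [MonObj.one_comp, MonObj.one_comp, one_mul, mul_one, Category.id_comp]⟩
  · exact hcell pp fP ⟨1, 1, 𝟙 _, by rw [MonObj.one_comp, MonObj.one_comp, one_mul, one_mul, Category.id_comp],
      by rw [MonObj.one_comp, MonObj.one_comp, one_mul, one_mul, Category.id_comp]⟩
  · exact hcell pm fM ⟨𝟙 _, 1, 1, by rw [MonObj.one_comp, MonObj.one_comp, mul_one, mul_one, Category.id_comp],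
      by rw [MonObj.one_comp, MonObj.one_comp, mul_one, mul_one, Category.id_comp]⟩

/-- Homomorphisms agreeing on the torus and the root groups are equal. -/
theorem hom_ext_cell [IsMonHom i] [IsMonHom pp] [IsMonHom pm] [IsOpenImmersion (cellMap i pp pm).left]
    (hG : Red.IsReductive G) (f f' : G ⟶ H) [IsMonHom f] [IsMonHom f'] (h1 : i ≫ f = i ≫ f')
    (h2 : pp ≫ f = pp ≫ f') (h3 : pm ≫ f = pm ≫ f') : f = f' := by
  obtain ⟨X', a, c, hf, hs, -, hc, hd⟩ := exists_translate (i := i) (pp := pp) (pm := pm) hG ![𝟙 G]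
  haveI := epi_of_flat_surjective a
  have key : ∀ {g : X' ⟶ G}, InCell i pp pm g → g ≫ f = g ≫ f' := by
    rintro g ⟨y, t, x, rfl⟩
    simp only [MonObj.mul_comp, Category.assoc, h1, h2, h3]
  have h4 := key (hd 0)
  change (c * (a ≫ 𝟙 G)) ≫ f = (c * (a ≫ 𝟙 G)) ≫ f' at h4
  rw [Category.comp_id, MonObj.mul_comp, MonObj.mul_comp, key hc] at h4
  rw [← cancel_epi a]
  exact mul_left_cancel h4

end build

end Groth.Agent.RedR1
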