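import Groth.Agent.GrpField.Fibres
import Groth.Prelude.Def_Red2
import Mathlib.AlgebraicGeometry.Geometrically.Irreducible
import Mathlib.AlgebraicGeometry.Morphisms.Flat
import Mathlib.AlgebraicGeometry.Morphisms.Smooth
import Mathlib.AlgebraicGeometry.PullbackCarrier

/-!
# The big cell of a rank-one system
-/

set_option autoImplicit false
set_option linter.style.haveILetI false

universe u

open CategoryTheory MonoidalCategory CartesianMonoidalCategory AlgebraicGeometry
open scoped CategoryTheory.MonObj CategoryTheory.GrpObj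

noncomputable section

namespace Groth.Agent.RedR1

variable {S : Scheme.{u}} {G T : Over S} [GrpObj G] [GrpObj T]

/-- The cell morphism. -/
abbrev cellMap (i : T ⟶ G) (pp pm : Red.Ga S ⟶ G) : (Red.Ga S ⊗ T) ⊗ Red.Ga S ⟶ G :=
  ((pm ⊗ₘ i) ⊗ₘ pp) ≫ (μ[G] ▷ G) ≫ μ[G]

/-- A point lying in the big cell. -/
def InCell (i : T ⟶ G) (pp pm : Red.Ga S ⟶ G) {X : Over S} (g : X ⟶ G) : Prop :=
  ∃ (y : X ⟶ Red.Ga S) (t : X ⟶ T) (x : X ⟶ Red.Ga S), g = (y ≫ pm) * (t ≫ i) * (x ≫ pp)

variable {i : T ⟶ G} {pp pm : Red.Ga S ⟶ G}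

theorem lift_cellMap {X : Over S} (y : X ⟶ Red.Ga S) (t : X ⟶ T) (x : X ⟶ Red.Ga S) :
    lift (lift y t) x ≫ cellMap i pp pm = (y ≫ pm) * (t ≫ i) * (x ≫ pp) := by
  simp only [cellMap, Hom.mul_def, lift_map_assoc, lift_map, lift_whiskerRight_assoc]

theorem InCell.comp {X X' : Over S} (f : X' ⟶ X) {g : X ⟶ G} (h : InCell i pp pm g) :
    InCell i pp pm (f ≫ g) := by
  obtain ⟨y, t, x, rfl⟩ := h
  exact ⟨f ≫ y, f ≫ t, f ≫ x, by simp [MonObj.comp_mul, Category.assoc]⟩

theorem inCell_iff [IsOpenImmersion (cellMap i pp pm).left] {X : Over S} (g : X ⟶ G) :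
    InCell i pp pm g ↔ Set.range g.left ⊆ Set.range (cellMap i pp pm).left := by
  constructor
  · rintro ⟨y, t, x, rfl⟩
    rw [← lift_cellMap, Over.comp_left]
    rintro _ ⟨p, rfl⟩
    exact ⟨_, rfl⟩
  · intro h
    let l : X ⟶ (Red.Ga S ⊗ T) ⊗ Red.Ga S := Over.homMk (IsOpenImmersion.lift (cellMap i pp pm).left g.left h) (by
      rw [← Over.w (cellMap i pp pm), ← Category.assoc, IsOpenImmersion.lift_fac]; exact Over.w g)
    have hl : l ≫ cellMap i pp pm = g := Over.OverMorphism.ext (IsOpenImmersion.lift_fac _ _ h)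
    refine ⟨l ≫ fst _ _ ≫ fst _ _, l ≫ fst _ _ ≫ snd _ _, l ≫ snd _ _, ?_⟩
    rw [← lift_cellMap, ← hl]
    congr 1
    ext <;> simp

theorem cell_inj [IsOpenImmersion (cellMap i pp pm).left] {X : Over S} {y y' x x' : X ⟶ Red.Ga S} {t t' : X ⟶ T}
    (h : (y ≫ pm) * (t ≫ i) * (x ≫ pp) = (y' ≫ pm) * (t' ≫ i) * (x' ≫ pp)) : y = y' ∧ t = t' ∧ x = x' := by
  rw [← lift_cellMap, ← lift_cellMap] at h
  have h' : lift (lift y t) x = lift (lift y' t') x' :=
    Over.OverMorphism.ext ((cancel_mono (cellMap i pp pm).left).1 (congrArg (fun f => f.left) h))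
  have h1 := congrArg (· ≫ fst _ _ ≫ fst _ _) h'
  have h2 := congrArg (· ≫ fst _ _ ≫ snd _ _) h'
  have h3 := congrArg (· ≫ snd _ _) h'
  simp only [lift_fst_assoc, lift_fst, lift_snd] at h1 h2 h3
  exact ⟨h1, h2, h3⟩

theorem inCell_one [IsMonHom i] [IsMonHom pp] [IsMonHom pm] {X : Over S} :
    InCell i pp pm (1 : X ⟶ G) :=
  ⟨1, 1, 1, by rw [MonObj.one_comp, MonObj.one_comp, MonObj.one_comp, one_mul, one_mul]⟩

theorem geometricallyIrreducible_of_isReductive (hG : Red.IsReductive G) : GeometricallyIrreducible G.hom := by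
  haveI := hG.2.1
  refine GrpField.geometricallyIrreducible_of_connected_fibres G fun s => ?_
  haveI : ConnectedSpace ↥(Limits.pullback G.hom (Red.geomPt s)) := (hG.2.2 s).2.2.1
  have h := isConnected_range (Limits.pullback.fst G.hom (Red.geomPt s)).continuous
  rw [Scheme.Pullback.range_fst] at h
  convert h
  refine subset_antisymm ?_ ?_
  · rintro _ rfl
    exact ⟨default, by
      rw [Red.geomPt, Scheme.Hom.comp_apply, Scheme.fromSpecResidueField_apply]⟩
  · rintro _ ⟨p, rfl⟩
    rw [Set.mem_singleton_iff, Red.geomPt, Scheme.Hom.comp_apply, Scheme.fromSpecResidueField_apply]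

/-- Translation by a point, over that point's source. -/
def transl {X : Over S} (g : X ⟶ G) : X ⊗ G ⟶ X ⊗ G := lift (fst X G) (snd X G * (fst X G ≫ g))

theorem transl_transl {X : Over S} (g g' : X ⟶ G) : transl g ≫ transl g' = transl (g * g') := by
  simp [transl, comp_lift, MonObj.comp_mul, mul_assoc]

theorem transl_one {X : Over S} : transl (1 : X ⟶ G) = 𝟙 (X ⊗ G) := by
  simp [transl, MonObj.comp_one]

set_option backward.isDefEq.respectTransparency false in
/-- Finitely many points are simultaneously translated into the cell, after a flat surjective cover. -/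
theorem exists_translate [IsMonHom i] [IsMonHom pp] [IsMonHom pm] [IsOpenImmersion (cellMap i pp pm).left]
    (hG : Red.IsReductive G) {X : Over S} {n : ℕ} (g : Fin n → (X ⟶ G)) :
    ∃ (X' : Over S) (f : X' ⟶ X) (c : X' ⟶ G), Flat f.left ∧ Surjective f.left ∧
      LocallyOfFinitePresentation f.left ∧ InCell i pp pm c ∧ ∀ j, InCell i pp pm (c * (f ≫ g j)) := by
  haveI := hG.2.1
  haveI := geometricallyIrreducible_of_isReductive hG
  haveI : Smooth (fst X G).left := inferInstanceAs (Smooth (Limits.pullback.fst X.hom G.hom))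
  haveI : GeometricallyIrreducible (fst X G).left :=
    inferInstanceAs (GeometricallyIrreducible (Limits.pullback.fst X.hom G.hom))
  let V : (X ⊗ G).left.Opens := (snd X G).left ⁻¹ᵁ (cellMap i pp pm).left.opensRange
  let h : Option (Fin n) → (X ⟶ G) := fun o => o.elim 1 g
  let W : (X ⊗ G).left.Opens := ⨅ o, (transl (h o)).left ⁻¹ᵁ V
  let X' : Over S := Over.mk (W.ι ≫ (X ⊗ G).hom)
  let w : X' ⟶ X ⊗ G := Over.homMk W.ι
  have hmem : ∀ p, p ∈ W ↔ ∀ o, (transl (h o)).left p ∈ V := fun p => by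
    rw [← SetLike.mem_coe, TopologicalSpace.Opens.coe_iInf, Set.mem_iInter]; rfl
  have hin : ∀ o, InCell i pp pm (w ≫ transl (h o) ≫ snd X G) := fun o => by
    rw [inCell_iff]
    rintro _ ⟨p, rfl⟩
    exact (hmem _).1 p.2 o
  refine ⟨X', w ≫ fst X G, w ≫ snd X G, ?_, ?_, ?_, ?_, fun j => ?_⟩
  · exact inferInstanceAs (Flat (W.ι ≫ (fst X G).left))
  · refine ⟨fun p => ?_⟩
    have key : ∃ q : (X ⊗ G).left, (fst X G).left q = p ∧ q ∈ W := by
      let F : Set (X ⊗ G).left := (fst X G).left ⁻¹' {p}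
      have hF : IsPreirreducible F := by
        have e := Scheme.Hom.range_fiberι (fst X G).left p
        rw [show F = Set.range ((fst X G).left.fiberι p) from e.symm]
        exact (IrreducibleSpace.isIrreducible_univ _).2.image _ (Scheme.Hom.continuous _).continuousOn |> fun h => by
          rwa [Set.image_univ] at h
      have hne : ∀ o, (F ∩ ((transl (h o)).left ⁻¹' (V : Set (X ⊗ G).left))).Nonempty := fun o => by
        let q0 := (lift (𝟙 X) (1 : X ⟶ G) ≫ transl (h o)⁻¹).left p
        have e1 : (lift (𝟙 X) (1 : X ⟶ G) ≫ transl (h o)⁻¹) ≫ fst X G = 𝟙 X := by simp [transl]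
        have e2 : (lift (𝟙 X) (1 : X ⟶ G) ≫ transl (h o)⁻¹) ≫ transl (h o) ≫ snd X G = 1 := by
          rw [Category.assoc, ← Category.assoc (transl (h o)⁻¹), transl_transl, inv_mul_cancel, transl_one]
          simp
        refine ⟨q0, congrArg (fun f : X ⟶ X => f.left p) e1, ?_⟩
        have h1 : InCell i pp pm (1 : X ⟶ G) := inCell_one
        rw [inCell_iff, ← e2] at h1
        exact h1 ⟨p, rfl⟩
      classical
      have : ∀ s : Finset (Option (Fin n)), (F ∩ ⋂ o ∈ s, (transl (h o)).left ⁻¹' (V : Set (X ⊗ G).left)).Nonempty := by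
        intro s
        induction s using Finset.induction with
        | empty => obtain ⟨q, hq, -⟩ := hne none; exact ⟨q, hq, by simp⟩
        | insert o s _ ih =>
          rw [Finset.set_biInter_insert]
          exact hF _ _ (((V.isOpen).preimage (Scheme.Hom.continuous _)))
            (isOpen_biInter_finset fun o _ => (V.isOpen).preimage (Scheme.Hom.continuous _)) (hne o) ih
      obtain ⟨q, hq, hq'⟩ := this Finset.univ
      exact ⟨q, hq, (hmem q).2 fun o => Set.mem_iInter₂.1 hq' o (Finset.mem_univ o)⟩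
    obtain ⟨q, hq, hqW⟩ := key
    exact ⟨⟨q, hqW⟩, hq⟩
  · exact inferInstanceAs (LocallyOfFinitePresentation (W.ι ≫ (fst X G).left))
  · simpa [h, transl_one] using hin none
  · simpa [h, transl, MonObj.comp_mul] using hin (some j)

end Groth.Agent.RedR1
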