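import Mathlib.Algebra.Ring.Units
import Mathlib.Algebra.Group.Conj
import Mathlib.Tactic.Ring
import Mathlib.Tactic.Group
import Mathlib.Tactic.LinearCombination

/-!
# The group calculus of a rank-one system

`P`, `M` are additive one-parameter subgroups, `H` is the coroot, and the commutation rule
`P x * M y = M (y/u) * H u * P (x/u)` holds whenever `u = 1 + x y` is a unit.
-/

set_option autoImplicit false

namespace Groth.Agent.RedR1

/-- The data of a rank-one system on an abstract group. -/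
structure Calc (G : Type*) [Group G] (R : Type*) [CommRing R] where
  P : R → G
  M : R → G
  H : Rˣ → G
  P_add : ∀ a b, P (a + b) = P a * P b
  M_add : ∀ a b, M (a + b) = M a * M b
  H_mul : ∀ u v, H (u * v) = H u * H v
  conj_P : ∀ (v : Rˣ) (a : R), H v * P a * (H v)⁻¹ = P ((v : R) * v * a)
  conj_M : ∀ (v : Rˣ) (a : R), H v * M a * (H v)⁻¹ = M ((↑v⁻¹ : R) * ↑v⁻¹ * a)
  rule : ∀ (x y : R) (u : Rˣ), (u : R) = 1 + x * y →
    P x * M y = M (y * ↑u⁻¹) * H u * P (x * ↑u⁻¹)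

namespace Calc

variable {G : Type*} [Group G] {R : Type*} [CommRing R] (C : Calc G R)

@[simp] theorem P_zero : C.P 0 = 1 := by
  have h := C.P_add 0 0
  rw [add_zero] at h
  exact left_eq_mul.1 h

@[simp] theorem M_zero : C.M 0 = 1 := by
  have h := C.M_add 0 0
  rw [add_zero] at h
  exact left_eq_mul.1 h

@[simp] theorem H_one : C.H 1 = 1 := by
  have h := C.H_mul 1 1
  rw [mul_one] at h
  exact left_eq_mul.1 h

theorem P_neg (a : R) : C.P (-a) = (C.P a)⁻¹ :=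
  eq_inv_of_mul_eq_one_left (by rw [← C.P_add, neg_add_cancel, P_zero])

theorem M_neg (a : R) : C.M (-a) = (C.M a)⁻¹ :=
  eq_inv_of_mul_eq_one_left (by rw [← C.M_add, neg_add_cancel, M_zero])

theorem H_inv (v : Rˣ) : C.H v⁻¹ = (C.H v)⁻¹ :=
  eq_inv_of_mul_eq_one_left (by rw [← C.H_mul, inv_mul_cancel, H_one])

theorem H_mul_P (v : Rˣ) (a : R) : C.H v * C.P a = C.P ((v : R) * v * a) * C.H v := by
  rw [← C.conj_P v a, inv_mul_cancel_right]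

theorem H_mul_M (v : Rˣ) (a : R) : C.H v * C.M a = C.M ((↑v⁻¹ : R) * ↑v⁻¹ * a) * C.H v := by
  rw [← C.conj_M v a, inv_mul_cancel_right]

/-- A torus element with root value `a` moves to the left past `P`. -/
theorem P_mul_of_conj {g : G} {a : Rˣ} (hg : ∀ x : R, g * C.P x * g⁻¹ = C.P (a * x)) (x : R) :
    C.P x * g = g * C.P ((↑a⁻¹ : R) * x) := by
  have := hg ((↑a⁻¹ : R) * x)
  rw [← mul_assoc, Units.mul_inv, one_mul] at this
  rw [← this, inv_mul_cancel_right]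

/-- The product of two elements of the big cell. -/
theorem cell_mul_cell {g g' : G} {a a' : Rˣ} (hg : ∀ y : R, g * C.M y * g⁻¹ = C.M ((↑a⁻¹ : R) * y))
    (hg' : ∀ x : R, g' * C.P x * g'⁻¹ = C.P (a' * x)) (x y x' y' : R) (u : Rˣ)
    (hu : (u : R) = 1 + x * y') :
    (C.M y * g * C.P x) * (C.M y' * g' * C.P x') =
      C.M (y + y' * ↑u⁻¹ * ↑a⁻¹) * (g * C.H u * g') * C.P (x * ↑u⁻¹ * ↑a'⁻¹ + x') := by
  have h1 : g * C.M (y' * ↑u⁻¹) = C.M (y' * ↑u⁻¹ * ↑a⁻¹) * g := by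
    rw [mul_comm (y' * (↑u⁻¹ : R)) (↑a⁻¹ : R), ← hg, inv_mul_cancel_right]
  have h2 : C.P (x * ↑u⁻¹) * g' = g' * C.P (x * ↑u⁻¹ * ↑a'⁻¹) := by
    rw [C.P_mul_of_conj hg', mul_comm (↑a'⁻¹ : R)]
  rw [C.M_add, C.P_add]
  calc (C.M y * g * C.P x) * (C.M y' * g' * C.P x')
      = C.M y * g * (C.P x * C.M y') * g' * C.P x' := by group
    _ = C.M y * (g * C.M (y' * ↑u⁻¹)) * C.H u * (C.P (x * ↑u⁻¹) * g') * C.P x' := by
          rw [C.rule x y' u hu]; group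
    _ = _ := by rw [h1, h2]; group

/-- The rule for the opposite root. -/
theorem rule_op (x y : R) (u : Rˣ) (hu : (u : R) = 1 + x * y) :
    C.M y * C.P x = C.P (x * ↑u⁻¹) * (C.H u)⁻¹ * C.M (y * ↑u⁻¹) := by
  have h := C.rule (-x) (-y) u (by rw [hu]; ring)
  rw [C.P_neg x, C.M_neg y, neg_mul, neg_mul, C.P_neg, C.M_neg] at h
  have h' := congrArg Inv.inv h
  rw [mul_inv_rev, mul_inv_rev, mul_inv_rev, inv_inv, inv_inv, inv_inv, inv_inv, ← mul_assoc] at h'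
  exact h'

/-- The coroot through the root groups. -/
theorem H_eq_prod (v : Rˣ) :
    C.H v = C.M ((↑v⁻¹ : R) - 1) * C.P 1 * C.M ((v : R) - 1) * C.P (-(↑v⁻¹ : R)) := by
  have h := C.rule 1 ((v : R) - 1) v (by ring)
  have h1 : ((v : R) - 1) * ↑v⁻¹ = -((↑v⁻¹ : R) - 1) := by
    rw [sub_mul, Units.mul_inv, one_mul]; ring
  rw [h1, C.M_neg, one_mul] at h
  rw [mul_assoc (C.M _) (C.P 1), h, C.P_neg]
  group

/-- The Weyl element `w(x) = P x * M (-1/x) * P x`. -/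
def w (x : Rˣ) : G := C.P x * C.M (-(↑x⁻¹ : R)) * C.P x

theorem w_neg (x : Rˣ) : C.w (-x) = (C.w x)⁻¹ := by
  have h1 : ((-x : Rˣ) : R) = -(x : R) := Units.val_neg x
  have h2 : ((-x)⁻¹ : Rˣ) = -x⁻¹ := by
    apply inv_eq_of_mul_eq_one_right
    rw [neg_mul_neg, mul_inv_cancel]
  rw [w, w, h2, h1, Units.val_neg, neg_neg, C.P_neg, mul_inv_rev, mul_inv_rev, C.M_neg, inv_inv,
    mul_assoc]

/-- `w(x) w(y) = H (-x/y)`. -/
theorem w_mul_w (x y : Rˣ) : C.w x * C.w y = C.H (-(x * y⁻¹)) := by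
  set m : Rˣ := -(x * y⁻¹) with hm
  have hmv : (m : R) = -((x : R) * ↑y⁻¹) := by rw [hm, Units.val_neg, Units.val_mul]
  have hmi : ((↑m⁻¹ : R)) = -((y : R) * ↑x⁻¹) := by
    apply Units.inv_eq_of_mul_eq_one_right
    rw [hmv]
    linear_combination ((x : R) * ↑x⁻¹) * Units.inv_mul y + Units.mul_inv x
  have key := C.rule ((x : R) + y) (-(↑y⁻¹ : R)) m (by
    rw [hmv]; linear_combination Units.mul_inv y)
  have e1 : -(↑y⁻¹ : R) * ↑m⁻¹ = (↑x⁻¹ : R) := by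
    rw [hmi]; linear_combination (↑x⁻¹ : R) * Units.inv_mul y
  rw [e1] at key
  calc C.w x * C.w y = C.P x * C.M (-(↑x⁻¹ : R)) * (C.P x * C.P y * C.M (-(↑y⁻¹ : R))) * C.P y := by
        simp only [w]; group
    _ = C.P x * C.H m * (C.P (((x : R) + y) * ↑m⁻¹) * C.P y) := by
        rw [← C.P_add, key, C.M_neg]; group
    _ = C.P x * (C.H m * C.P (((x : R) + y) * ↑m⁻¹ + y)) := by rw [C.P_add]; group
    _ = C.P ((x : R) + (m : R) * m * (((x : R) + y) * ↑m⁻¹ + y)) * C.H m := by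
        rw [C.H_mul_P, C.P_add]; group
    _ = C.H m := by
        have e : (x : R) + (m : R) * m * (((x : R) + y) * ↑m⁻¹ + y) = 0 := by
          have h3 : (m : R) * y = -(x : R) := by rw [hmv]; linear_combination -(x : R) * Units.inv_mul y
          linear_combination ((m : R) * ((x : R) + y)) * Units.mul_inv m + ((m : R) + 1) * h3
        rw [e, C.P_zero, one_mul]

theorem w_sq (x : Rˣ) : C.w x * C.w x = C.H (-1) := by rw [C.w_mul_w, mul_inv_cancel]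

/-- `w(z x) = H z * w x = w x * (H z)⁻¹`. -/
theorem w_smul (z x : Rˣ) : C.w (z * x) = C.H z * C.w x ∧ C.w (z * x) = C.w x * (C.H z)⁻¹ := by
  constructor
  · have h := C.w_mul_w (z * x) (-x)
    rw [C.w_neg, show -(z * x * (-x)⁻¹) = z by
      ext
      have h2 : ((-x)⁻¹ : Rˣ) = -x⁻¹ := by
        apply inv_eq_of_mul_eq_one_right
        rw [neg_mul_neg, mul_inv_cancel]
      simp [h2, mul_assoc]] at h
    rw [← h, inv_mul_cancel_right]
  · have h := C.w_mul_w (-x) (z * x)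
    rw [C.w_neg, show -(-x * (z * x)⁻¹) = z⁻¹ by
      ext
      simp [mul_inv_rev, ← mul_assoc], C.H_inv] at h
    rw [← h, mul_inv_cancel_left]

/-- Conjugating a torus element by a Weyl element. -/
theorem w_conj {g : G} {a : Rˣ} (hP : ∀ x : R, g * C.P x * g⁻¹ = C.P (a * x))
    (hM : ∀ y : R, g * C.M y * g⁻¹ = C.M ((↑a⁻¹ : R) * y)) (x : Rˣ) :
    C.w x * g * (C.w x)⁻¹ = (C.H a)⁻¹ * g := by
  have h1 : g * C.w (-x) * g⁻¹ = C.w (-(a * x)) := by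
    have e : -(a * x) = a * (-x) := by rw [mul_neg]
    rw [e]
    simp only [w]
    rw [Units.val_mul, mul_inv_rev, Units.val_mul, mul_comm (↑(-x)⁻¹ : R), neg_mul_eq_mul_neg,
      ← hP, ← hM]
    group
  calc C.w x * g * (C.w x)⁻¹ = C.w x * (g * C.w (-x) * g⁻¹) * g := by rw [C.w_neg]; group
    _ = C.w x * C.w (-(a * x)) * g := by rw [h1]
    _ = (C.H a)⁻¹ * g := by
        rw [C.w_mul_w, ← C.H_inv]
        congr 2
        ext
        have h2 : ((-(a * x))⁻¹ : Rˣ) = -(a * x)⁻¹ := by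
          apply inv_eq_of_mul_eq_one_right
          rw [neg_mul_neg, mul_inv_cancel]
        simp [h2, mul_comm]

/-- Conjugation of `P b` by `w x`, when `1 + b/x` is a unit. -/
theorem w_conj_P_good (x : Rˣ) (b : R) (u : Rˣ) (hu : (u : R) = 1 + b * ↑x⁻¹) :
    C.w x * C.P b * (C.w x)⁻¹ = C.M (-(b * ↑x⁻¹ * ↑x⁻¹)) := by
  have hxu : (x : R) * u = x + b := by rw [hu]; linear_combination b * Units.mul_inv x
  have key := C.rule b (↑x⁻¹) u hu
  set c : R := -(↑x⁻¹ : R) + ↑x⁻¹ * ↑u⁻¹ with hc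
  have hc' : c = -(b * ↑x⁻¹ * ↑x⁻¹ * ↑u⁻¹) := by
    rw [hc]; linear_combination (↑x⁻¹ : R) * Units.mul_inv u - (↑x⁻¹ * ↑u⁻¹) * hu
  have key2 := C.rule (x : R) c u⁻¹ (by
    rw [hc]; linear_combination (1 - (↑u⁻¹ : R)) * Units.mul_inv x)
  rw [inv_inv] at key2
  have e1 : c * (u : R) = -(b * ↑x⁻¹ * ↑x⁻¹) := by
    rw [hc']; linear_combination -(b * ↑x⁻¹ * ↑x⁻¹) * Units.inv_mul u
  rw [e1] at key2
  have hb : C.w x * C.P b * (C.w x)⁻¹ =
      C.P x * (C.M (-(↑x⁻¹ : R)) * (C.P b * C.M (↑x⁻¹))) * C.P (-(x : R)) := by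
    simp only [w, mul_inv_rev]
    rw [← C.M_neg, neg_neg, ← C.P_neg]
    calc _ = C.P x * C.M (-(↑x⁻¹ : R)) * (C.P x * C.P b * C.P (-(x : R))) * C.M (↑x⁻¹) * C.P (-(x : R)) := by
          group
      _ = _ := by
          rw [← C.P_add, ← C.P_add, show (x : R) + b + -(x : R) = b by ring]
          group
  rw [hb, key]
  calc C.P x * (C.M (-(↑x⁻¹ : R)) * (C.M (↑x⁻¹ * ↑u⁻¹) * C.H u * C.P (b * ↑u⁻¹))) * C.P (-(x : R))
      = C.P x * C.M c * C.H u * (C.P (b * ↑u⁻¹) * C.P (-(x : R))) := by rw [hc, C.M_add]; group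
    _ = C.M (-(b * ↑x⁻¹ * ↑x⁻¹)) * (C.H u⁻¹ * C.P ((x : R) * u)) * C.H u * C.P (b * ↑u⁻¹ + -(x : R)) := by
        rw [key2, C.P_add]; group
    _ = C.M (-(b * ↑x⁻¹ * ↑x⁻¹)) * C.P ((↑u⁻¹ : R) * ↑u⁻¹ * ((x : R) * u) + (b * ↑u⁻¹ + -(x : R))) := by
        rw [C.H_mul_P, C.P_add _ (b * ↑u⁻¹ + -(x : R)), C.H_inv]; group
    _ = C.M (-(b * ↑x⁻¹ * ↑x⁻¹)) := by
        have e : (↑u⁻¹ : R) * ↑u⁻¹ * ((x : R) * u) + (b * ↑u⁻¹ + -(x : R)) = 0 := by
          linear_combination ((↑u⁻¹ : R) * x + (x : R)) * Units.inv_mul u - (↑u⁻¹ : R) * hxu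
        rw [e, C.P_zero, mul_one]

/-- The conjugation rule, from a decomposition `b = b₁ + b₂` into good summands. -/
theorem w_conj_P_split (x : Rˣ) (b b₁ b₂ : R) (hb : b = b₁ + b₂) (u₁ u₂ : Rˣ)
    (h1 : (u₁ : R) = 1 + b₁ * ↑x⁻¹) (h2 : (u₂ : R) = 1 + b₂ * ↑x⁻¹) :
    C.w x * C.P b * (C.w x)⁻¹ = C.M (-(b * ↑x⁻¹ * ↑x⁻¹)) := by
  subst hb
  rw [show -((b₁ + b₂) * (↑x⁻¹ : R) * ↑x⁻¹) = -(b₁ * ↑x⁻¹ * ↑x⁻¹) + -(b₂ * ↑x⁻¹ * ↑x⁻¹) by ring,
    C.M_add, ← C.w_conj_P_good x b₁ u₁ h1, ← C.w_conj_P_good x b₂ u₂ h2, C.P_add]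
  group

section conj

variable (hw : ∀ (x : Rˣ) (b : R), C.w x * C.P b * (C.w x)⁻¹ = C.M (-(b * ↑x⁻¹ * ↑x⁻¹)))

include hw

theorem w_conj_P_self (x : Rˣ) : C.w x * C.P x * (C.w x)⁻¹ = C.M (-(↑x⁻¹ : R)) := by
  rw [hw]
  congr 1
  linear_combination -(↑x⁻¹ : R) * Units.mul_inv x

/-- `M a P b M a = P b M a P b` for `b = -1/a`. -/
theorem braid (x : Rˣ) : C.M (-(↑x⁻¹ : R)) * C.P x * C.M (-(↑x⁻¹ : R)) = C.w x := by
  have h1 := C.w_conj_P_self hw x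
  have h2 := C.w_conj_P_self hw (-x)
  have hn : ((-x)⁻¹ : Rˣ) = -x⁻¹ := by
    apply inv_eq_of_mul_eq_one_right
    rw [neg_mul_neg, mul_inv_cancel]
  rw [hn, Units.val_neg, Units.val_neg, neg_neg, C.w_neg, inv_inv, C.P_neg] at h2
  rw [show C.M (↑x⁻¹ : R) = (C.M (-(↑x⁻¹ : R)))⁻¹ by rw [C.M_neg, inv_inv]] at h2
  have h3 : (C.w x)⁻¹ * C.P x * C.w x = C.M (-(↑x⁻¹ : R)) := by
    rw [← inv_inj]
    rw [← h2]
    group
  calc C.M (-(↑x⁻¹ : R)) * C.P x * C.M (-(↑x⁻¹ : R))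
      = C.w x * C.P x * (C.w x)⁻¹ * C.P x * C.M (-(↑x⁻¹ : R)) := by rw [h1]
    _ = C.w x * C.P x * ((C.w x)⁻¹ * C.P x * (C.M (-(↑x⁻¹ : R)) * C.P x)) * (C.P x)⁻¹ := by group
    _ = C.w x := by
        have h4 : C.M (-(↑x⁻¹ : R)) * C.P x = (C.P x)⁻¹ * C.w x := by simp only [w]; group
        have h5 : (C.w x)⁻¹ * C.P x * (C.M (-(↑x⁻¹ : R)) * C.P x) = 1 := by
          rw [h4]; group
        rw [h5]
        group

theorem cube (x : Rˣ) : (C.w x * C.P x) ^ 3 = 1 := by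
  have hsq := C.w_sq x
  have hc : C.H (-1) * C.P x = C.P x * C.H (-1) := by
    rw [C.H_mul_P, Units.val_neg, Units.val_one, neg_mul_neg, one_mul, one_mul]
  have hH : C.H (-1) * C.H (-1) = 1 := by rw [← C.H_mul, neg_mul_neg, one_mul, C.H_one]
  have hw1 : C.w x * C.P x = C.M (-(↑x⁻¹ : R)) * C.w x := by
    rw [← C.w_conj_P_self hw, inv_mul_cancel_right]
  have hMw : C.M (-(↑x⁻¹ : R)) * C.H (-1) = C.H (-1) * C.M (-(↑x⁻¹ : R)) := by
    rw [C.H_mul_M, inv_neg, inv_one, Units.val_neg, Units.val_one, neg_mul_neg, one_mul, one_mul]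
  calc (C.w x * C.P x) ^ 3 = (C.w x * C.P x) * (C.w x * C.P x) * (C.w x * C.P x) := by
        rw [pow_succ, pow_two]
    _ = C.M (-(↑x⁻¹ : R)) * (C.w x * C.w x) * C.P x * (C.w x * C.P x) := by
        conv_lhs => arg 1; arg 1; rw [hw1]
        simp only [mul_assoc]
    _ = C.H (-1) * (C.M (-(↑x⁻¹ : R)) * C.P x * C.M (-(↑x⁻¹ : R))) * C.w x := by
        rw [hsq, hMw, hw1]; group
    _ = C.H (-1) * (C.w x * C.w x) := by rw [C.braid hw]; group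
    _ = 1 := by rw [hsq, hH]

end conj

end Calc

end Groth.Agent.RedR1
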