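import Groth.Agent.RedR1.Weyl

/-!
# Points inverting the coroot
-/

set_option autoImplicit false
set_option linter.style.haveILetI false

universe u

open CategoryTheory MonoidalCategory CartesianMonoidalCategory AlgebraicGeometry
open scoped CategoryTheory.MonObj CategoryTheory.GrpObj
open Groth.Agent.BGaNotS (gaPt gaFn_gaPt gaPt_ext gaFn_comp gaFn_mul gaFn_one)

noncomputable section

namespace Groth.Agent.RedR1

variable {S : Scheme.{u}} {G T : Over S} [GrpObj G] [GrpObj T] {i : T ⟶ G} {α : T ⟶ Red.Gm S}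
  {pp pm : Red.Ga S ⟶ G} {av : Red.Gm S ⟶ T}

theorem Calc.w_conj_H {G R : Type*} [Group G] [CommRing R] (C : Calc G R) (x v : Rˣ) :
    C.w x * C.H v * (C.w x)⁻¹ = (C.H v)⁻¹ := by
  rw [C.w_conj (g := C.H v) (a := v * v) (fun b => by rw [C.conj_P, Units.val_mul])
    (fun b => by rw [C.conj_M, mul_inv_rev, Units.val_mul]) x, C.H_mul]
  group

/-- A point inverting a power of the coroot is a torus point times a Weyl element. -/
theorem Sys.eq_torus_mul_w (s : Sys i α pp pm av) [IsOpenImmersion (cellMap i pp pm).left]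
    (hG : Red.IsReductive G) (hT : Red.IsTorus T)
    (hα : ∀ s : S, (Over.pullback (Red.geomPt s)).map α ≠ 1) {n : ℤ} (hn : n ≠ 0) {X : Over S} (w : X ⟶ G)
    (hw : ∀ (X' : Over S) (f : X' ⟶ X) (v : (Γ(X'.left, ⊤))ˣ),
      (f ≫ w) * (s.calc' X').H (v ^ n) * (f ≫ w)⁻¹ = ((s.calc' X').H (v ^ n))⁻¹) (a : (Γ(X.left, ⊤))ˣ) :
    ∃ t : X ⟶ T, w = (t ≫ i) * (s.calc' X).w a := by
  obtain ⟨t, ht⟩ := s.torus_of_commute hG hT hα hn (w * ((s.calc' X).w a)⁻¹) fun X' f v => by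
    rw [MonObj.comp_mul, GrpObj.comp_inv, s.comp_w, Commute, SemiconjBy]
    set C := s.calc' X'
    set e := v ^ n
    set b := Units.map f.left.appTop.hom.toMonoidHom a
    have h1 := C.w_conj_H b e
    have h2 := hw X' f v
    calc (f ≫ w) * (C.w b)⁻¹ * C.H e = (f ≫ w) * ((C.w b)⁻¹ * (C.H e * C.w b)) * (C.w b)⁻¹ := by group
      _ = (f ≫ w) * (C.H e)⁻¹ * (C.w b)⁻¹ := by
          have h3 : (C.w b)⁻¹ * (C.H e * C.w b) = (C.H e)⁻¹ := by
            have h4 : C.w b * (C.H e)⁻¹ = C.H e * C.w b := by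
              rw [← C.H_inv]
              have h5 := C.w_conj_H b e⁻¹
              rw [C.H_inv, inv_inv, mul_inv_eq_iff_eq_mul] at h5
              rw [C.H_inv]; exact h5
            rw [← h4]; group
          rw [h3]
      _ = C.H e * ((f ≫ w) * (C.w b)⁻¹) := by
          have h2' : (f ≫ w) * (C.H e)⁻¹ = C.H e * (f ≫ w) := by
            calc (f ≫ w) * (C.H e)⁻¹ = ((f ≫ w) * C.H e * (f ≫ w)⁻¹)⁻¹ * (f ≫ w) := by group
              _ = _ := by rw [show (f ≫ w) * C.H e * (f ≫ w)⁻¹ = (C.H e)⁻¹ from h2, inv_inv]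
          rw [h2', mul_assoc]
  exact ⟨t, by rw [ht]; group⟩

/-- Conjugation by `t * w(a)` on the torus. -/
theorem Sys.torus_mul_w_conj (s : Sys i α pp pm av) (hT : Red.IsTorus T) {X : Over S} (t t' : X ⟶ T)
    (a : (Γ(X.left, ⊤))ˣ) :
    ((t ≫ i) * (s.calc' X).w a) * (t' ≫ i) * ((t ≫ i) * (s.calc' X).w a)⁻¹ = (t' ≫ α ≫ av ≫ i)⁻¹ * (t' ≫ i) := by
  haveI := s.hi
  set C := s.calc' X
  have h1 := C.w_conj (g := t' ≫ i) (a := rt α t') (fun b => s.conj_P t' b) (fun b => s.conj_M t' b) a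
  have hH : C.H (rt α t') = ((t' ≫ α) ≫ av) ≫ i := by
    change ((GmPts.ptOfUnit (GmPts.unitOfPt (t' ≫ α))) ≫ av) ≫ i = _
    rw [GmPts.ptOfUnit_unitOfPt]
  have h2 : (t' ≫ α ≫ av ≫ i)⁻¹ * (t' ≫ i) = ((((t' ≫ α) ≫ av))⁻¹ * t') ≫ i := by
    rw [MonObj.mul_comp, GrpObj.inv_comp]; simp only [Category.assoc]
  rw [h2]
  calc (t ≫ i) * C.w a * (t' ≫ i) * ((t ≫ i) * C.w a)⁻¹
      = (t ≫ i) * (C.w a * (t' ≫ i) * (C.w a)⁻¹) * (t ≫ i)⁻¹ := by group
    _ = (t ≫ i) * (((((t' ≫ α) ≫ av))⁻¹ * t') ≫ i) * (t ≫ i)⁻¹ := by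
        rw [h1, hH, MonObj.mul_comp, GrpObj.inv_comp]
    _ = _ := by
        rw [← MonObj.mul_comp, mul_comm_torus hT t, MonObj.mul_comp, mul_inv_cancel_right]

/-- A Weyl element is not in the torus. -/
theorem Sys.not_torus (s : Sys i α pp pm av) [IsOpenImmersion (cellMap i pp pm).left] {X : Over S} [Nonempty X.left] (hT : Red.IsTorus T) {n : ℤ}
    (v : (Γ(X.left, ⊤))ˣ) (hv : v ^ (4 * n) ≠ 1) (t : X ⟶ T)
    (hw : (t ≫ i) * (s.calc' X).H (v ^ n) * (t ≫ i)⁻¹ = ((s.calc' X).H (v ^ n))⁻¹) : False := by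
  haveI := s.hi
  set C := s.calc' X
  set e := v ^ n
  have h1 : (t ≫ i) * C.H e = C.H e * (t ≫ i) := by
    change (t ≫ i) * ((GmPts.ptOfUnit e ≫ av) ≫ i) = ((GmPts.ptOfUnit e ≫ av) ≫ i) * (t ≫ i)
    rw [← MonObj.mul_comp, mul_comm_torus hT, MonObj.mul_comp]
  rw [h1, mul_inv_cancel_right] at hw
  have hH : C.H (e * e) = 1 := by rw [C.H_mul]; nth_rw 2 [hw]; group
  have h5 : C.P ((((e * e : (Γ(X.left, ⊤))ˣ) : Γ(X.left, ⊤)) * ↑(e * e)) * 1) = C.P 1 := by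
    rw [← C.conj_P, hH]; group
  have h7 := cell_inj (i := i) (pp := pp) (pm := pm) (y := (1 : X ⟶ Red.Ga S)) (y' := 1) (t := 1) (t' := 1)
    (x := gaPt ((((e * e : (Γ(X.left, ⊤))ˣ) : Γ(X.left, ⊤)) * ↑(e * e)) * 1)) (x' := gaPt 1)
    (congrArg (fun w => ((1 : X ⟶ Red.Ga S) ≫ pm) * ((1 : X ⟶ T) ≫ i) * w) h5)
  have h8 := congrArg Red.gaFn h7.2.2
  rw [gaFn_gaPt, gaFn_gaPt, mul_one] at h8
  refine hv ?_
  have h9 : v ^ (4 * n) = e * e * (e * e) := by simp only [e, ← zpow_add]; congr 1; ring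
  ext
  rw [h9, Units.val_mul, h8, Units.val_one]

end Groth.Agent.RedR1
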