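import Groth.Agent.RedR1.Pts

/-!
# Root covers
-/

set_option autoImplicit false
set_option linter.style.haveILetI false

universe u

open CategoryTheory MonoidalCategory CartesianMonoidalCategory AlgebraicGeometry

noncomputable section

namespace Groth.Agent.RedR1

variable {S : Scheme.{u}}

/-- A flat surjective cover on which a monic polynomial has a root. -/
theorem exists_root_cover (X : Over S) (p : Polynomial Γ(X.left, ⊤)) (hp : p.Monic) (hdeg : p.natDegree ≠ 0) :
    ∃ (X' : Over S) (g : X' ⟶ X) (c : Γ(X'.left, ⊤)), Epi g ∧ Flat g.left ∧ Surjective g.left ∧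
      p.eval₂ g.left.appTop.hom c = 0 := by
  cases subsingleton_or_nontrivial Γ(X.left, ⊤)
  · exact ⟨X, 𝟙 X, 0, inferInstance, inferInstanceAs (Flat (𝟙 X.left)), inferInstanceAs (Surjective (𝟙 X.left)),
      Subsingleton.elim _ _⟩
  haveI : Module.Free Γ(X.left, ⊤) (AdjoinRoot p) := hp.free_adjoinRoot
  haveI : Nontrivial (AdjoinRoot p) := by
    refine nontrivial_of_ne (1 : AdjoinRoot p) 0 ?_
    rw [← map_one (AdjoinRoot.mk p)]
    refine AdjoinRoot.mk_ne_zero_of_natDegree_lt hp one_ne_zero ?_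
    rw [Polynomial.natDegree_one]
    exact Nat.pos_of_ne_zero hdeg
  haveI : Module.FaithfullyFlat Γ(X.left, ⊤) (AdjoinRoot p) := inferInstance
  let f := Spec.map (CommRingCat.ofHom (algebraMap Γ(X.left, ⊤) (AdjoinRoot p)))
  haveI : Flat f := by
    rw [Flat.SpecMap_iff]; exact RingHom.flat_algebraMap_iff.2 inferInstance
  haveI : Surjective f := ⟨PrimeSpectrum.comap_surjective_of_faithfullyFlat⟩
  let Y : Over S := Over.mk (Limits.pullback.fst X.left.toSpecΓ f ≫ X.hom)
  let g : Y ⟶ X := Over.homMk (Limits.pullback.fst X.left.toSpecΓ f)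
  haveI : Epi g.left := Flat.epi_of_flat_of_surjective (Limits.pullback.fst X.left.toSpecΓ f)
  have hg : Epi g := (Over.forget S).epi_of_epi_map ‹Epi g.left›
  let φ : AdjoinRoot p →+* Γ(Y.left, ⊤) :=
    (Limits.pullback.snd X.left.toSpecΓ f).appTop.hom.comp
      (Scheme.ΓSpecIso (CommRingCat.of (AdjoinRoot p))).inv.hom
  have hφ : ∀ r, φ (algebraMap _ _ r) = g.left.appTop r := by
    intro r
    change (Limits.pullback.snd X.left.toSpecΓ f).appTop
      ((Scheme.ΓSpecIso (CommRingCat.of (AdjoinRoot p))).inv (algebraMap _ _ r)) = _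
    have h1 : (Scheme.ΓSpecIso (CommRingCat.of (AdjoinRoot p))).inv (algebraMap _ _ r) =
        f.appTop ((Scheme.ΓSpecIso _).inv r) :=
      congrArg (fun m => (CommRingCat.Hom.hom m) r) (Scheme.ΓSpecIso_inv_naturality (CommRingCat.ofHom (algebraMap Γ(X.left, ⊤) (AdjoinRoot p))))
    have h2 : X.left.toSpecΓ.appTop ((Scheme.ΓSpecIso Γ(X.left, ⊤)).inv r) = r := by
      rw [Scheme.toSpecΓ_appTop, ← CommRingCat.comp_apply, Iso.inv_hom_id]; rfl
    conv_rhs => rw [← h2]
    rw [h1]
    have h3 := congrArg (fun m => m.appTop ((Scheme.ΓSpecIso Γ(X.left, ⊤)).inv r))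
      (Limits.pullback.condition (f := X.left.toSpecΓ) (g := f))
    simp only [Scheme.Hom.comp_appTop, CommRingCat.comp_apply] at h3
    exact h3.symm
  refine ⟨Y, g, φ (AdjoinRoot.root p), hg, inferInstanceAs (Flat (Limits.pullback.fst X.left.toSpecΓ f)),
    inferInstanceAs (Surjective (Limits.pullback.fst X.left.toSpecΓ f)), ?_⟩
  have h := congrArg φ (AdjoinRoot.eval₂_root p)
  rw [map_zero, Polynomial.hom_eval₂] at h
  rw [← h, ← AdjoinRoot.algebraMap_eq]
  congr 1
  exact RingHom.ext fun r => (hφ r).symm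

end Groth.Agent.RedR1
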