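import Groth.Agent.RedR1.Build
import Groth.Agent.RedR1.Hom
import Groth.Agent.RedR1.Iso
import Groth.Agent.RedR1.Root

/-!
# Recovering the multiplier of a homomorphism from its restriction to the coroot
-/

set_option autoImplicit false
set_option linter.style.haveILetI false

universe u

open CategoryTheory MonoidalCategory CartesianMonoidalCategory AlgebraicGeometry
open scoped CategoryTheory.MonObj CategoryTheory.GrpObj
open Groth.Agent.BGaNotS (gaPt gaFn_gaPt gaPt_ext gaFn_comp gaFn_mul gaFn_one)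

noncomputable section

namespace Groth.Agent.RedR1

variable {S : Scheme.{u}} {G T : Over S} [GrpObj G] [GrpObj T] {i : T ⟶ G} {α : T ⟶ Red.Gm S}
  {pp pm : Red.Ga S ⟶ G} {av : Red.Gm S ⟶ T}

/-- A square root of a unit exists after a faithfully flat cover. -/
theorem exists_sqrt_cover (X : Over S) (a : (Γ(X.left, ⊤))ˣ) :
    ∃ (X' : Over S) (g : X' ⟶ X) (v : (Γ(X'.left, ⊤))ˣ), Epi g ∧ Flat g.left ∧ Surjective g.left ∧
      (v : Γ(X'.left, ⊤)) * v = g.left.appTop (a : Γ(X.left, ⊤)) := by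
  cases subsingleton_or_nontrivial Γ(X.left, ⊤)
  · exact ⟨X, 𝟙 X, 1, inferInstance, inferInstanceAs (Flat (𝟙 X.left)), inferInstanceAs (Surjective (𝟙 X.left)),
      Subsingleton.elim _ _⟩
  obtain ⟨X', g, c, hg, hf, hs, hc⟩ := exists_root_cover X (Polynomial.X ^ 2 - Polynomial.C (a : Γ(X.left, ⊤)))
    (Polynomial.monic_X_pow_sub_C _ two_ne_zero) (by rw [Polynomial.natDegree_X_pow_sub_C]; exact two_ne_zero)
  rw [Polynomial.eval₂_sub, Polynomial.eval₂_X_pow, Polynomial.eval₂_C, sub_eq_zero, pow_two] at hc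
  have hu : IsUnit c := isUnit_of_mul_isUnit_left (y := c) (by
    rw [hc]; exact a.isUnit.map g.left.appTop.hom)
  exact ⟨X', g, hu.unit, hg, hf, hs, hc⟩

theorem InCell.torus_left (s : Sys i α pp pm av) {X : Over S} {g : X ⟶ G} (t : X ⟶ T)
    (h : InCell i pp pm g) : InCell i pp pm ((t ≫ i) * g) := by
  haveI := s.hi
  obtain ⟨y, t', x, rfl⟩ := h
  refine ⟨gaPt ((↑(Sys.rt α t)⁻¹ : Γ(X.left, ⊤)) * Red.gaFn y), t * t', x, ?_⟩
  rw [← s.conj_M, gaPt_gaFn, MonObj.mul_comp]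
  group

theorem InCell.torus_right (s : Sys i α pp pm av) {X : Over S} {g : X ⟶ G} (t : X ⟶ T)
    (h : InCell i pp pm g) : InCell i pp pm (g * (t ≫ i)) := by
  haveI := s.hi
  obtain ⟨y, t', x, rfl⟩ := h
  refine ⟨y, t' * t, gaPt ((↑(Sys.rt α t)⁻¹ : Γ(X.left, ⊤)) * Red.gaFn x), ?_⟩
  have e := (s.calc' X).P_mul_of_conj (g := t ≫ i) (a := Sys.rt α t) (fun b => s.conj_P t b) (Red.gaFn x)
  rw [← s.calc'_P x rfl] at e
  rw [MonObj.mul_comp]
  change _ = _ * (s.calc' X).P _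
  calc (y ≫ pm) * (t' ≫ i) * (x ≫ pp) * (t ≫ i) = (y ≫ pm) * (t' ≫ i) * ((x ≫ pp) * (t ≫ i)) := by group
    _ = _ := by rw [e]; group

/-- The cell is stable under conjugation by the torus. -/
theorem inCell_conj_iff (s : Sys i α pp pm av) {X : Over S} {g : X ⟶ G} (t : X ⟶ T) :
    InCell i pp pm ((t ≫ i) * g * (t ≫ i)⁻¹) ↔ InCell i pp pm g := by
  haveI := s.hi
  rw [← GrpObj.inv_comp]
  refine ⟨fun h => ?_, fun h => (h.torus_left s t).torus_right s t⁻¹⟩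
  have := (h.torus_left s t⁻¹).torus_right s t
  rw [GrpObj.inv_comp] at this
  convert this using 1
  group

/-- A point of `w Ω` outside `Ω` is `w` times a torus point times a point of `U_α`. -/
theorem Sys.weyl_form (s : Sys i α pp pm av) {X : Over S} (hfield : ∀ a : Γ(X.left, ⊤), a = 0 ∨ IsUnit a)
    {g : X ⟶ G} (hg : ¬ InCell i pp pm g) (h : InCell i pp pm (((s.calc' X).w 1)⁻¹ * g)) :
    ∃ (t : X ⟶ T) (x : Γ(X.left, ⊤)), g = (s.calc' X).w 1 * (t ≫ i) * (s.calc' X).P x := by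
  haveI := s.hi; haveI := s.hpph; haveI := s.hpmh
  set C := s.calc' X
  obtain ⟨y, t, x, hyx⟩ := h
  have hg' : g = C.w 1 * C.M (Red.gaFn y) * (t ≫ i) * C.P (Red.gaFn x) := by
    rw [← s.calc'_M y rfl, ← s.calc'_P x rfl]
    calc g = C.w 1 * ((C.w 1)⁻¹ * g) := by group
      _ = _ := by rw [hyx]; group
  rcases hfield (Red.gaFn y) with hy | ⟨u, hu⟩
  · exact ⟨t, Red.gaFn x, by rw [hg', hy, C.M_zero, mul_one]⟩
  refine absurd ?_ hg
  rw [hg', ← hu]
  have e1 : C.w 1 * C.M (u : Γ(X.left, ⊤)) = C.P (1 - (u : Γ(X.left, ⊤))) * C.M (-1) * C.P 1 := by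
    have h0 := s.w_conj_P X 1 (-(u : Γ(X.left, ⊤)))
    rw [inv_one, Units.val_one, mul_one, mul_one, neg_neg] at h0
    change C.w 1 * C.P _ * (C.w 1)⁻¹ = C.M _ at h0
    have hsq := C.w_sq (1 : (Γ(X.left, ⊤))ˣ)
    have hc : C.H (-1) * C.P (-(u : Γ(X.left, ⊤))) = C.P (-(u : Γ(X.left, ⊤))) * C.H (-1) := by
      rw [C.H_mul_P, Units.val_neg, Units.val_one, neg_mul_neg, one_mul, one_mul]
    calc C.w 1 * C.M (u : Γ(X.left, ⊤)) = C.w 1 * C.w 1 * C.P (-(u : Γ(X.left, ⊤))) * (C.w 1)⁻¹ := by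
          rw [← h0]; group
      _ = C.P (-(u : Γ(X.left, ⊤))) * (C.w 1 * C.w 1) * (C.w 1)⁻¹ := by rw [hsq, hc]
      _ = C.P (-(u : Γ(X.left, ⊤))) * C.w 1 := by group
      _ = _ := by
          rw [sub_eq_neg_add, C.P_add]
          simp only [Calc.w, inv_one, Units.val_one]; group
  rw [e1, C.rule (1 - (u : Γ(X.left, ⊤))) (-1) u (by ring)]
  refine (InCell.torus_right s t ?_).right_P (gaPt (Red.gaFn x))
  refine ⟨gaPt (-1 * (↑u⁻¹ : Γ(X.left, ⊤))), GmPts.ptOfUnit u ≫ av,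
    gaPt ((1 - (u : Γ(X.left, ⊤))) * ↑u⁻¹ + 1), ?_⟩
  change C.M _ * C.H u * C.P _ * C.P 1 = C.M _ * C.H u * C.P _
  rw [C.P_add]; group

/-- The product of two such points lies in the cell. -/
theorem Sys.weyl_form_mul (s : Sys i α pp pm av) {X : Over S} (t t' : X ⟶ T) (x x' : Γ(X.left, ⊤)) :
    InCell i pp pm (((s.calc' X).w 1 * (t ≫ i) * (s.calc' X).P x) *
      ((s.calc' X).w 1 * (t' ≫ i) * (s.calc' X).P x')) := by
  haveI := s.hi; haveI := s.hpph; haveI := s.hpmh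
  set C := s.calc' X
  have h0 := s.w_conj_P X 1 x
  rw [inv_one, Units.val_one, mul_one, mul_one] at h0
  change C.w 1 * C.P _ * (C.w 1)⁻¹ = C.M _ at h0
  have h1 := C.w_conj (g := t ≫ i) (a := Sys.rt α t) (fun b => s.conj_P t b) (fun b => s.conj_M t b) 1
  have e : (C.w 1 * (t ≫ i) * C.P x) * (C.w 1 * (t' ≫ i) * C.P x') =
      (((GmPts.ptOfUnit (Sys.rt α t)⁻¹ ≫ av) * t) ≫ i) * C.M (-x) *
        (((GmPts.ptOfUnit (-1 : (Γ(X.left, ⊤))ˣ) ≫ av) * t') ≫ i) * C.P x' := by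
    rw [MonObj.mul_comp, MonObj.mul_comp]
    change _ = C.H _ * (t ≫ i) * C.M (-x) * (C.H (-1) * (t' ≫ i)) * C.P x'
    rw [C.H_inv, ← h1, ← h0, ← C.w_sq 1]
    group
  rw [e]
  refine InCell.right_P (gaPt x') (InCell.torus_right s _ (InCell.torus_left s _ ?_))
  exact ⟨gaPt (-x), 1, 1, by rw [MonObj.one_comp, MonObj.one_comp, mul_one, mul_one]; rfl⟩

section hom

variable {G' T' : Over S} [GrpObj G'] [GrpObj T'] {i' : T' ⟶ G'} {α' : T' ⟶ Red.Gm S}
  {pp' pm' : Red.Ga S ⟶ G'} {av' : Red.Gm S ⟶ T'} (s : Sys i α pp pm av) (s' : Sys i' α' pp' pm' av')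
  (f : G ⟶ G') [IsMonHom f] {q : ℕ} (hq0 : 0 < q)
  (hq : ∀ (X : Over S) (a b : Γ(X.left, ⊤)), (a + b) ^ q = a ^ q + b ^ q)
  (hH : ∀ (X : Over S) (v : (Γ(X.left, ⊤))ˣ), (s.calc' X).H v ≫ f = (s'.calc' X).H (v ^ q))

include hH in
theorem Sys.image_P_sq {X : Over S} (v : (Γ(X.left, ⊤))ˣ) (a : Γ(X.left, ⊤)) :
    (s.calc' X).P ((v : Γ(X.left, ⊤)) * v * a) ≫ f =
      (s'.calc' X).H (v ^ q) * ((s.calc' X).P a ≫ f) * ((s'.calc' X).H (v ^ q))⁻¹ := by
  rw [← (s.calc' X).conj_P, MonObj.mul_comp, MonObj.mul_comp, GrpObj.inv_comp, hH]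

include hH in
/-- `f (P 1)` lies in the cell. -/
theorem Sys.image_P_inCell [IsOpenImmersion (cellMap i' pp' pm').left] (hG' : Red.IsReductive G')
    (X : Over S) : InCell i' pp' pm' ((s.calc' X).P 1 ≫ f) := by
  haveI := s'.hi; haveI := s'.hpph; haveI := s'.hpmh
  rw [inCell_iff]
  rintro _ ⟨p, rfl⟩
  obtain ⟨X₁, e₁, he₁, ⟨z₁⟩, -, hor⟩ := s'.inCell_or hG' ((s.calc' X).P 1 ≫ f) p
  obtain ⟨X', e₂, he₂, ⟨z⟩, hfield, hv⟩ := exists_geom_point X₁ z₁
  set e := e₂ ≫ e₁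
  have hez : e.left z = p := by rw [Over.comp_left, Scheme.Hom.comp_apply, he₁]
  have hpull : e ≫ (s.calc' X).P 1 ≫ f = (s.calc' X').P 1 ≫ f := by
    rw [← Category.assoc, s.comp_P, map_one]
  have hgood : InCell i' pp' pm' ((s.calc' X').P 1 ≫ f) := by
    rcases hor with hor | hor
    · have := hor.comp e₂
      rwa [← Category.assoc, hpull] at this
    by_contra hne
    have hW : InCell i' pp' pm' (((s'.calc' X').w 1)⁻¹ * ((s.calc' X').P 1 ≫ f)) := by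
      have := hor.comp e₂
      rw [MonObj.comp_mul, GrpObj.comp_inv, s'.comp_w, ← Category.assoc, hpull, map_one] at this
      exact this
    obtain ⟨t, x, hform⟩ := s'.weyl_form hfield hne hW
    -- every square multiple has the same shape
    have hsq : ∀ v : (Γ(X'.left, ⊤))ˣ, ∃ (t : X' ⟶ T') (x : Γ(X'.left, ⊤)),
        (s.calc' X').P ((v : Γ(X'.left, ⊤)) * v) ≫ f = (s'.calc' X').w 1 * (t ≫ i') * (s'.calc' X').P x := by
      intro v
      have h1 := s.image_P_sq s' f hH v 1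
      rw [mul_one] at h1
      refine s'.weyl_form hfield ?_ ?_
      · rw [h1]
        exact fun h => hne ((inCell_conj_iff s' _).1 h)
      · rw [h1, hform]
        set C' := s'.calc' X'
        have h2 := C'.w_conj_H 1 ((v ^ q)⁻¹)
        have h2' : (C'.w 1)⁻¹ * C'.H (v ^ q) * C'.w 1 = C'.H (v ^ q)⁻¹ := by
          rw [C'.H_inv] at h2
          rw [C'.H_inv]
          have h3 : C'.H (v ^ q) * C'.w 1 = C'.w 1 * (C'.H (v ^ q))⁻¹ := by
            rw [inv_inv] at h2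
            conv_lhs => rw [← h2]
            group
          rw [mul_assoc, h3]; group
        rw [show (C'.w 1)⁻¹ * (C'.H (v ^ q) * (C'.w 1 * (t ≫ i') * C'.P x) * (C'.H (v ^ q))⁻¹) =
          ((C'.w 1)⁻¹ * C'.H (v ^ q) * C'.w 1) * ((t ≫ i') * C'.P x) * (C'.H (v ^ q))⁻¹ by group, h2', ← C'.H_inv]
        refine InCell.torus_right s' _ (InCell.torus_left s' _ (InCell.torus_left s' _ ?_))
        exact ⟨1, 1, gaPt x, by rw [MonObj.one_comp, MonObj.one_comp, one_mul, one_mul]; rfl⟩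
    have hno : ∀ a b d : (Γ(X'.left, ⊤))ˣ, (a : Γ(X'.left, ⊤)) * a + b * b = d * d → False := by
      intro a b d hd
      obtain ⟨ta, xa, ha⟩ := hsq a
      obtain ⟨tb, xb, hb⟩ := hsq b
      have h := congrArg (fun r => (s.calc' X').P r ≫ f) hd
      simp only [(s.calc' X').P_add, MonObj.mul_comp, ha, hb] at h
      have hin := s'.weyl_form_mul (X := X') ta tb xa xb
      rw [h, ← mul_one ((d : Γ(X'.left, ⊤)) * d), s.image_P_sq s' f hH] at hin
      exact hne ((inCell_conj_iff s' _).1 hin)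
    obtain ⟨v, hv⟩ := hv 4 (by norm_num)
    have hunit : ∀ a : Γ(X'.left, ⊤), a ≠ 0 → IsUnit a := fun a ha => (hfield a).resolve_left ha
    rcases hfield (2 : Γ(X'.left, ⊤)) with h2 | h2
    · have hd : IsUnit (1 + (v : Γ(X'.left, ⊤))) := hunit _ fun h => hv (by
        linear_combination ((v : Γ(X'.left, ⊤)) ^ 3 - (v : Γ(X'.left, ⊤)) ^ 2 + (v : Γ(X'.left, ⊤)) - 1) * h)
      exact hno 1 v hd.unit (by rw [IsUnit.unit_spec, Units.val_one]; linear_combination -(v : Γ(X'.left, ⊤)) * h2)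
    · have ha : IsUnit ((v : Γ(X'.left, ⊤)) ^ 2 - 1) := hunit _ fun h => hv (by
        linear_combination ((v : Γ(X'.left, ⊤)) ^ 2 + 1) * h)
      have hd : IsUnit ((v : Γ(X'.left, ⊤)) ^ 2 + 1) := hunit _ fun h => hv (by
        linear_combination ((v : Γ(X'.left, ⊤)) ^ 2 - 1) * h)
      exact hno ha.unit (h2.unit * v) hd.unit (by simp only [IsUnit.unit_spec, Units.val_mul]; ring)
  rw [← hpull, inCell_iff] at hgood
  have h0 : (e ≫ (s.calc' X).P 1 ≫ f).left z = ((s.calc' X).P 1 ≫ f).left p :=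
    (Scheme.Hom.comp_apply _ _ _).trans (congrArg _ hez)
  exact h0 ▸ hgood ⟨z, rfl⟩

include hq0 hq hH in
set_option maxHeartbeats 1000000 in
/-- `f (P 1)` lies in `U_α`. -/
theorem Sys.image_P_one [IsOpenImmersion (cellMap i' pp' pm').left] (hG' : Red.IsReductive G')
    (hT' : Red.IsTorus T') (X : Over S) : ∃ x : Γ(X.left, ⊤), (s.calc' X).P 1 ≫ f = (s'.calc' X).P x := by
  haveI := s'.hi; haveI := s'.hpph; haveI := s'.hpmh
  obtain ⟨y, t, x, h⟩ := s.image_P_inCell s' f hH hG' X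
  suffices hy : y = 1 ∧ t = 1 from ⟨Red.gaFn x, by
    rw [h, hy.1, hy.2, MonObj.one_comp, MonObj.one_comp, one_mul, one_mul, s'.calc'_P x rfl]⟩
  cases subsingleton_or_nontrivial Γ(X.left, ⊤)
  · exact ⟨gaPt_ext (Subsingleton.elim _ _),
      haveI : IsEmpty X.left := by
        by_contra hne
        rw [not_isEmpty_iff] at hne
        obtain ⟨p⟩ := hne
        obtain ⟨X', e, he, ⟨z⟩, -, hv⟩ := exists_geom_point X p
        obtain ⟨v, hv⟩ := hv 1 one_pos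
        refine hv ?_
        have h1 : (1 : Γ(X'.left, ⊤)) = 0 := by
          rw [← map_one e.left.appTop.hom, ← map_zero e.left.appTop.hom, Subsingleton.elim (1 : Γ(X.left, ⊤)) 0]
        exact (subsingleton_of_zero_eq_one h1.symm).elim _ _
      Over.OverMorphism.ext (Limits.IsInitial.hom_ext (isInitialOfIsEmpty (X := X.left)) _ _)⟩
  -- a cover carrying `v, w` with `w^2 = v^2 + 1` and `v^2` generic
  obtain ⟨X₁, g₁, r, hg₁, -, -, hr⟩ := exists_root_cover X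
    (Polynomial.X ^ 5 + (Polynomial.X ^ 4 - Polynomial.X ^ 2 - Polynomial.X - Polynomial.C 1))
    (Polynomial.monic_X_pow_add (by compute_degree!; all_goals norm_num))
    (by
      have hh : (Polynomial.X ^ 5 + (Polynomial.X ^ 4 - Polynomial.X ^ 2 - Polynomial.X - Polynomial.C 1) :
        Polynomial Γ(X.left, ⊤)).natDegree = 5 := by compute_degree!
      omega)
  simp only [Polynomial.eval₂_add, Polynomial.eval₂_sub, Polynomial.eval₂_X_pow, Polynomial.eval₂_X,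
    Polynomial.eval₂_C, Polynomial.eval₂_one, map_one] at hr
  have hru : IsUnit r := IsUnit.of_mul_eq_one ((r + 1) * (r ^ 3 - 1)) (by linear_combination hr)
  have hru1 : IsUnit (r + 1) := IsUnit.of_mul_eq_one (r * (r ^ 3 - 1)) (by linear_combination hr)
  have hru3 : IsUnit (r ^ 3 - 1) := IsUnit.of_mul_eq_one (r * (r + 1)) (by linear_combination hr)
  obtain ⟨X₂, g₂, v, hg₂, -, -, hv⟩ := exists_sqrt_cover X₁ hru.unit
  obtain ⟨X₃, g₃, w, hg₃, -, -, hw⟩ := exists_sqrt_cover X₂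
    (hru1.map g₂.left.appTop.hom).unit
  let g : X₃ ⟶ X := g₃ ≫ g₂ ≫ g₁
  haveI : Epi g := epi_comp _ _
  suffices hy : g ≫ y = 1 ∧ g ≫ t = 1 by
    exact ⟨by rw [← cancel_epi g, hy.1, MonObj.comp_one], by rw [← cancel_epi g, hy.2, MonObj.comp_one]⟩
  set V : (Γ(X₃.left, ⊤))ˣ := Units.map g₃.left.appTop.hom.toMonoidHom v
  have hW : (w : Γ(X₃.left, ⊤)) * w = (V : Γ(X₃.left, ⊤)) * V + 1 := by
    rw [hw, IsUnit.unit_spec, map_add, map_one, ← IsUnit.unit_spec hru, ← hv, map_add, map_mul, map_one]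
    rfl
  have h3 : IsUnit ((((V : Γ(X₃.left, ⊤)) * V)) ^ 3 - 1) := by
    have := (hru3.map g₂.left.appTop.hom).map g₃.left.appTop.hom
    rwa [map_sub, map_pow, map_one, ← IsUnit.unit_spec hru, ← hv, map_sub, map_pow, map_mul, map_one] at this
  set C := s.calc' X₃
  set C' := s'.calc' X₃
  set Y := Red.gaFn (g ≫ y)
  set τ := g ≫ t
  set Z := Red.gaFn (g ≫ x)
  have h1 : C.P 1 ≫ f = C'.M Y * (τ ≫ i') * C'.P Z := by
    have h0 := congrArg (g ≫ ·) h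
    rw [← Category.assoc, s.comp_P, map_one] at h0
    rw [h0, ← s'.calc'_M (g ≫ y) rfl, ← s'.calc'_P (g ≫ x) rfl]
    simp only [MonObj.comp_mul, Category.assoc]; rfl
  set ρ := Sys.rt α' τ
  have hconj : ∀ e : (Γ(X₃.left, ⊤))ˣ, C.P ((e : Γ(X₃.left, ⊤)) * e) ≫ f =
      C'.M ((↑(e ^ q * e ^ q)⁻¹ : Γ(X₃.left, ⊤)) * Y) * (τ ≫ i') *
        C'.P (((e ^ q * e ^ q : (Γ(X₃.left, ⊤))ˣ) : Γ(X₃.left, ⊤)) * Z) := fun e => by
    rw [← mul_one ((e : Γ(X₃.left, ⊤)) * e), s.image_P_sq s' f hH, h1]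
    have := conj_cell (fun X t x => s'.hpp X t x) (fun X t y => s'.hpm X t y) hT' (GmPts.ptOfUnit (e ^ q) ≫ av') τ Y Z
    rw [s'.rt_av] at this
    exact this
  set A : (Γ(X₃.left, ⊤))ˣ := V ^ q * V ^ q
  set B : (Γ(X₃.left, ⊤))ˣ := w ^ q * w ^ q
  have hA : (A : Γ(X₃.left, ⊤)) = ((V : Γ(X₃.left, ⊤)) * V) ^ q := by
    rw [Units.val_mul, Units.val_pow_eq_pow_val, mul_pow]
  have hB : (B : Γ(X₃.left, ⊤)) = A + 1 := by
    rw [hA, Units.val_mul, Units.val_pow_eq_pow_val, ← mul_pow, hW, hq, one_pow]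
  have e1 := hconj V
  have e3 := hconj w
  rw [hW] at e3
  have hAB : (C.P ((V : Γ(X₃.left, ⊤)) * V) ≫ f) * (C.P 1 ≫ f) = C.P ((V : Γ(X₃.left, ⊤)) * V + 1) ≫ f := by
    rw [← MonObj.mul_comp, ← C.P_add]
  have hBA : (C.P 1 ≫ f) * (C.P ((V : Γ(X₃.left, ⊤)) * V) ≫ f) = C.P ((V : Γ(X₃.left, ⊤)) * V + 1) ≫ f := by
    rw [← MonObj.mul_comp, ← C.P_add, add_comm]
  rw [e1, h1, e3] at hAB hBA
  have hprod : ∀ (a b a' b' c d : Γ(X₃.left, ⊤)),
      C'.M a * (τ ≫ i') * C'.P b * (C'.M a' * (τ ≫ i') * C'.P b') = C'.M c * (τ ≫ i') * C'.P d →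
      ∃ u : (Γ(X₃.left, ⊤))ˣ, (u : Γ(X₃.left, ⊤)) = 1 + b * a' ∧ c = a + a' * (u : Γ(X₃.left, ⊤)) ∧
        τ * (GmPts.ptOfUnit u ≫ av') * τ = τ := by
    intro a b a' b' c d hh
    have hin : InCell i' pp' pm' (C'.P b * C'.M a') := by
      have hc : InCell i' pp' pm' (C'.M c * (τ ≫ i') * C'.P d) := ⟨gaPt c, τ, gaPt d, rfl⟩
      have := (((hc.left_M (gaPt (-a))).torus_left s' τ⁻¹).right_P (gaPt (-b'))).torus_right s' τ⁻¹
      convert this using 1
      change _ = (τ⁻¹ ≫ i') * (C'.M (-a) * _) * C'.P (-b') * (τ⁻¹ ≫ i')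
      rw [← hh, C'.M_neg, C'.P_neg, GrpObj.inv_comp]
      group
    obtain ⟨u, hu⟩ := s'.isUnit_of_inCell hT' b a' hin
    rw [C'.cell_mul_cell (a := ρ) (a' := ρ) (fun z => s'.conj_M τ z) (fun z => s'.conj_P τ z) b a b' a' u hu] at hh
    have hcell : ((gaPt (a + a' * (↑u⁻¹ : Γ(X₃.left, ⊤)) * (↑ρ⁻¹ : Γ(X₃.left, ⊤)))) ≫ pm') * ((τ * (GmPts.ptOfUnit u ≫ av') * τ) ≫ i') *
        (gaPt (b * (↑u⁻¹ : Γ(X₃.left, ⊤)) * (↑ρ⁻¹ : Γ(X₃.left, ⊤)) + b') ≫ pp') = (gaPt c ≫ pm') * (τ ≫ i') * (gaPt d ≫ pp') := by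
      rw [MonObj.mul_comp, MonObj.mul_comp]; exact hh
    obtain ⟨hc, ht, -⟩ := cell_inj hcell
    refine ⟨u, hu, ?_, ht⟩
    have hc' := congrArg Red.gaFn hc
    rw [gaFn_gaPt, gaFn_gaPt] at hc'
    have hr : ρ * (u * u) * ρ = ρ := by
      have h5 := congrArg (Sys.rt α') ht
      haveI : IsMonHom α' := s'.hα
      have hm : ∀ a b : X₃ ⟶ T', Sys.rt α' (a * b) = Sys.rt α' a * Sys.rt α' b := fun a b =>
        (congrArg GmPts.unitOfPt (MonObj.mul_comp a b α')).trans (GmPts.unitOfPt_mul _ _)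
      rw [hm, hm] at h5
      change ρ * Sys.rt α' _ * ρ = ρ at h5
      rwa [s'.rt_av] at h5
    have hr' : ((ρ : Γ(X₃.left, ⊤)) * ((u : Γ(X₃.left, ⊤)) * u)) = 1 := by
      rw [← Units.val_mul, ← Units.val_mul, mul_eq_right.1 hr, Units.val_one]
    have hr'' : (↑u⁻¹ : Γ(X₃.left, ⊤)) * ↑ρ⁻¹ = u := by
      linear_combination (-(↑u⁻¹ : Γ(X₃.left, ⊤)) * ↑ρ⁻¹) * hr' + (u : Γ(X₃.left, ⊤)) * (Units.inv_mul ρ) +
        ((u : Γ(X₃.left, ⊤)) * ↑ρ⁻¹ * (ρ : Γ(X₃.left, ⊤))) * Units.inv_mul u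
    rw [← hc', mul_assoc, hr'']
  obtain ⟨u1, hu1, hy1, ht1⟩ := hprod _ _ _ _ _ _ hAB
  obtain ⟨u2, hu2, hy2, -⟩ := hprod _ _ _ _ _ _ hBA
  set Ai : Γ(X₃.left, ⊤) := (↑A⁻¹ : Γ(X₃.left, ⊤))
  have hAi : (A : Γ(X₃.left, ⊤)) * Ai = 1 := Units.mul_inv A
  rw [hu1] at hy1
  rw [hu2] at hy2
  have hz : (Z * Y * Y) * ((A : Γ(X₃.left, ⊤)) ^ 3 - 1) = 0 := by
    linear_combination ((A : Γ(X₃.left, ⊤)) ^ 2) * (hy2 - hy1) + Z * Y * Y * ((A : Γ(X₃.left, ⊤)) * Ai + 1) * hAi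
  have hA3 : IsUnit ((A : Γ(X₃.left, ⊤)) ^ 3 - 1) := by
    have := h3.pow q
    rwa [pow_sub_of_additive hq0 (hq X₃), one_pow, ← pow_mul, mul_comm 3 q, pow_mul, ← hA] at this
  have hz0 : Z * Y * Y = 0 := hA3.mul_left_eq_zero.1 hz
  have hA2 : IsUnit ((A : Γ(X₃.left, ⊤)) ^ 2 + A + 1) :=
    isUnit_of_mul_isUnit_right (x := (A : Γ(X₃.left, ⊤)) - 1) (by convert hA3 using 1; ring)
  have hY : Y = 0 := by
    refine hA2.mul_left_eq_zero.1 ?_
    linear_combination (-(A : Γ(X₃.left, ⊤)) * B) * hy1 + ((A : Γ(X₃.left, ⊤)) * Y) * (Units.mul_inv B) -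
      (B : Γ(X₃.left, ⊤)) * Y * hAi - (A : Γ(X₃.left, ⊤)) * B * A * hz0 - Y * (1 + (A : Γ(X₃.left, ⊤))) * hB
  refine ⟨gaPt_ext (hY.trans gaFn_one.symm), ?_⟩
  have hu : u1 = 1 := Units.ext (by rw [hu1, hY, mul_zero, add_zero, Units.val_one])
  rw [hu] at ht1
  haveI := s'.havh
  have h11 : (GmPts.ptOfUnit (1 : (Γ(X₃.left, ⊤))ˣ) : X₃ ⟶ Red.Gm S) ≫ av' = 1 := by
    rw [show (GmPts.ptOfUnit (1 : (Γ(X₃.left, ⊤))ˣ) : X₃ ⟶ Red.Gm S) = 1 from map_one (GmPts.equiv X₃).symm]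
    exact MonObj.one_comp av'
  rwa [h11, mul_one, mul_eq_right] at ht1

include hq0 hq hH in
/-- The restriction of `f` to the positive root group is `x ↦ c x^q`. -/
theorem Sys.image_P [IsOpenImmersion (cellMap i' pp' pm').left] (hG' : Red.IsReductive G')
    (hT' : Red.IsTorus T') (X : Over S) :
    ∃ c : Γ(X.left, ⊤), IsUnit c ∧ ∀ a, (s.calc' X).P a ≫ f = (s'.calc' X).P (c * a ^ q) := by
  haveI := s'.hi; haveI := s'.hpph; haveI := s'.hpmh
  obtain ⟨c, hc⟩ := s.image_P_one s' f hq0 hq hH hG' hT' X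
  have hpull : ∀ {X' : Over S} (g : X' ⟶ X),
      (s.calc' X').P 1 ≫ f = (s'.calc' X').P (g.left.appTop c) := fun {X'} g => by
    rw [← s'.comp_P, ← hc, ← Category.assoc, s.comp_P, map_one]
  have hunit : ∀ a : (Γ(X.left, ⊤))ˣ, (s.calc' X).P a ≫ f = (s'.calc' X).P (c * (a : Γ(X.left, ⊤)) ^ q) := by
    intro a
    obtain ⟨X', g, v, hg, -, -, hv⟩ := exists_sqrt_cover X a
    rw [← cancel_epi g, ← Category.assoc, s.comp_P, s'.comp_P, ← hv, ← mul_one ((v : Γ(X'.left, ⊤)) * v),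
      s.image_P_sq s' f hH, hpull g, (s'.calc' X').conj_P, map_mul, map_pow, ← hv,
      Units.val_pow_eq_pow_val, mul_pow]
    congr 1
    ring
  have hall : ∀ a : Γ(X.left, ⊤), (s.calc' X).P a ≫ f = (s'.calc' X).P (c * a ^ q) := by
    intro a
    obtain ⟨X', g, e, hg, h1, h2⟩ := exists_split_cover X (a - 2)
    have hu' : ∀ b : (Γ(X'.left, ⊤))ˣ, (s.calc' X').P b ≫ f =
        (s'.calc' X').P (g.left.appTop c * (b : Γ(X'.left, ⊤)) ^ q) := by
      intro b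
      obtain ⟨X'', g', v, hg', -, -, hv⟩ := exists_sqrt_cover X' b
      rw [← cancel_epi g', ← Category.assoc, s.comp_P, s'.comp_P, ← hv, ← mul_one ((v : Γ(X''.left, ⊤)) * v),
        s.image_P_sq s' f hH, hpull (g' ≫ g), (s'.calc' X'').conj_P, map_mul, map_pow, ← hv,
        Units.val_pow_eq_pow_val, mul_pow, Over.comp_left, Scheme.Hom.comp_appTop, CommRingCat.comp_apply]
      congr 1
      ring
    have h3 : g.left.appTop a = (h1.unit : Γ(X'.left, ⊤)) + h2.unit := by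
      simp only [IsUnit.unit_spec, map_sub, map_ofNat]; ring
    rw [← cancel_epi g, ← Category.assoc, s.comp_P, s'.comp_P, map_mul, map_pow, h3, (s.calc' X').P_add,
      MonObj.mul_comp, hu', hu', hq, mul_add, (s'.calc' X').P_add]
  refine ⟨c, ?_, hall⟩
  refine X.left.toRingedSpace.isUnit_of_isUnit_germ ⊤ _ fun p hp => ?_
  refine (Scheme.mem_basicOpen X.left _ p hp).1 ?_
  by_contra hmem
  obtain ⟨X', e, he, ⟨z⟩, hfield, hv⟩ := exists_geom_point X p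
  rcases hfield (e.left.appTop c) with h0 | h0
  · -- then `f` kills the positive root group, hence also the negative one
    set C := s.calc' X'
    set C' := s'.calc' X'
    have h1 : C.P 1 ≫ f = 1 := by rw [hpull e, h0, C'.P_zero]
    obtain ⟨v, hv⟩ := hv (2 * (2 * q)) (by omega)
    have hM : ∀ b, C.M b ≫ f = 1 := by
      intro b
      have hn1 : C.P (-1) ≫ f = 1 := by rw [C.P_neg, GrpObj.inv_comp, h1, inv_one]
      have hw : C.w 1 ≫ f = C.M (-1) ≫ f := by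
        rw [Calc.w, Units.val_one, inv_one, Units.val_one, MonObj.mul_comp, MonObj.mul_comp, h1, one_mul, mul_one]
      have h2 : ∀ a : Γ(X'.left, ⊤), (C.w 1 ≫ f) * (C.P a ≫ f) * (C.w 1 ≫ f)⁻¹ = C.M (-a) ≫ f := fun a => by
        have h4 := s.w_conj_P X' 1 a
        rw [inv_one, Units.val_one, mul_one, mul_one] at h4
        rw [← GrpObj.inv_comp, ← MonObj.mul_comp, ← MonObj.mul_comp]
        exact congrArg (· ≫ f) h4
      have h3 : C.M (-1) ≫ f = 1 := by rw [← h2, h1]; group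
      have hc1 : ∀ a : Γ(X'.left, ⊤), C.P a ≫ f = 1 := fun a => by
        obtain ⟨a', ha'⟩ : ∃ a', a' = a := ⟨a, rfl⟩
        have h5 : ∀ {X'' : Over S} (g : X'' ⟶ X') (u : (Γ(X''.left, ⊤))ˣ), (s.calc' X'').P u ≫ f = 1 := by
          intro X'' g u
          obtain ⟨X₄, g', r, hg', -, -, hr⟩ := exists_sqrt_cover X'' u
          rw [← cancel_epi g', ← Category.assoc, s.comp_P, ← hr, ← mul_one ((r : Γ(X₄.left, ⊤)) * r),
            s.image_P_sq s' f hH, MonObj.comp_one]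
          rw [hpull (g' ≫ g ≫ e), Over.comp_left, Over.comp_left, Scheme.Hom.comp_appTop, Scheme.Hom.comp_appTop,
            CommRingCat.comp_apply, CommRingCat.comp_apply, h0, map_zero, map_zero, (s'.calc' X₄).P_zero]
          group
        obtain ⟨X'', g, d, hg, d1, d2⟩ := exists_split_cover X' (a - 2)
        have h7 : g.left.appTop a = (d1.unit : Γ(X''.left, ⊤)) + d2.unit := by
          simp only [IsUnit.unit_spec, map_sub, map_ofNat]; ring
        rw [← cancel_epi g, ← Category.assoc, s.comp_P, h7, (s.calc' X'').P_add, MonObj.mul_comp, h5 g, h5 g,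
          MonObj.comp_one, one_mul]
      rw [← neg_neg b, ← h2, hc1]
      group
    have hHv : C.H v ≫ f = 1 := by
      rw [C.H_eq_prod, MonObj.mul_comp, MonObj.mul_comp, MonObj.mul_comp, hM, hM, h1, one_mul, one_mul, one_mul,
        C.P_neg, GrpObj.inv_comp]
      have hPv : ∀ b : (Γ(X'.left, ⊤))ˣ, C.P b ≫ f = 1 := fun b => by
        obtain ⟨X'', g, r, hg, -, -, hr⟩ := exists_sqrt_cover X' b
        rw [← cancel_epi g, ← Category.assoc, s.comp_P, ← hr, ← mul_one ((r : Γ(X''.left, ⊤)) * r),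
          s.image_P_sq s' f hH, hpull (g ≫ e), Over.comp_left, Scheme.Hom.comp_appTop, CommRingCat.comp_apply, h0,
          map_zero, (s'.calc' X'').P_zero, MonObj.comp_one]
        group
      rw [hPv, inv_one]
    rw [hH] at hHv
    have h6 := C'.conj_P (v ^ q) 1
    rw [hHv, one_mul, inv_one, mul_one] at h6
    have h7 := cell_inj (i := i') (pp := pp') (pm := pm') (y := (1 : X' ⟶ Red.Ga S)) (y' := 1) (t := 1) (t' := 1)
      (congrArg (fun w => ((1 : X' ⟶ Red.Ga S) ≫ pm') * ((1 : X' ⟶ T') ≫ i') * w) h6)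
    have h8 := congrArg Red.gaFn h7.2.2
    rw [gaFn_gaPt, gaFn_gaPt, mul_one, Units.val_pow_eq_pow_val, ← pow_add, show q + q = 2 * q by ring] at h8
    refine hv ?_
    rw [mul_comm, pow_mul, ← h8, one_pow]
  · have hz : z ∈ X'.left.basicOpen (e.left.appTop c) := by
      rw [X'.left.basicOpen_of_isUnit h0]; trivial
    rw [← Scheme.preimage_basicOpen_top] at hz
    exact hmem (he z ▸ hz)

end hom


end Groth.Agent.RedR1
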