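import Groth.Agent.RedR1.Weyl

/-!
# Homomorphisms from `𝔾_a` with a torus weight land in the root group
-/

set_option autoImplicit false
set_option linter.style.haveILetI false

universe u

open CategoryTheory MonoidalCategory CartesianMonoidalCategory AlgebraicGeometry
open scoped CategoryTheory.MonObj CategoryTheory.GrpObj
open Groth.Agent.BGaNotS (gaPt gaFn_gaPt gaPt_ext gaFn_comp gaFn_mul gaFn_one toSpec_appTop)

noncomputable section

namespace Groth.Agent.RedR1

variable {S : Scheme.{u}}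

/-- Morphisms agree if they agree on all points with affine source. -/
theorem ext_affine {X Y : Over S} {u v : X ⟶ Y}
    (h : ∀ (X' : Over S) (g : X' ⟶ X), IsAffine X'.left → g ≫ u = g ≫ v) : u = v := by
  refine Over.OverMorphism.ext (Scheme.Cover.hom_ext X.left.affineCover _ _ fun j => ?_)
  exact congrArg (fun m => m.left)
    (h (Over.mk (X.left.affineCover.f j ≫ X.hom)) (Over.homMk (X.left.affineCover.f j))
      (inferInstanceAs (IsAffine (X.left.affineCover.X j))))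

/-- The affine line over an affine `S`-scheme. -/
abbrev polyObj (X : Over S) [IsAffine X.left] : Over S :=
  Over.mk (Spec.map (CommRingCat.ofHom (Polynomial.C : Γ(X.left, ⊤) →+* Polynomial Γ(X.left, ⊤))) ≫
    X.left.isoSpec.inv ≫ X.hom)

/-- A polynomial as a function on the line. -/
abbrev polyFn (X : Over S) [IsAffine X.left] (P : Polynomial Γ(X.left, ⊤)) : Γ((polyObj X).left, ⊤) :=
  (Scheme.ΓSpecIso (CommRingCat.of (Polynomial Γ(X.left, ⊤)))).inv P

theorem polyFn_surjective (X : Over S) [IsAffine X.left] (b : Γ((polyObj X).left, ⊤)) : ∃ P, polyFn X P = b :=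
  ⟨(Scheme.ΓSpecIso (CommRingCat.of (Polynomial Γ(X.left, ⊤)))).hom b, by
    rw [polyFn, ← CommRingCat.comp_apply, Iso.hom_inv_id]; rfl⟩

theorem polyFn_injective (X : Over S) [IsAffine X.left] : Function.Injective (polyFn X) :=
  Function.LeftInverse.injective (g := (Scheme.ΓSpecIso (CommRingCat.of (Polynomial Γ(X.left, ⊤)))).hom)
    fun P => by rw [polyFn, ← CommRingCat.comp_apply, Iso.inv_hom_id]; rfl

/-- A point of the line. -/
def polyPt {X X' : Over S} [IsAffine X.left] (g : X' ⟶ X) (a : Γ(X'.left, ⊤)) : X' ⟶ polyObj X :=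
  Over.homMk (X'.left.toSpecΓ ≫ Spec.map (CommRingCat.ofHom (Polynomial.eval₂RingHom g.left.appTop.hom a))) (by
    change (X'.left.toSpecΓ ≫ _) ≫ Spec.map (CommRingCat.ofHom _) ≫ X.left.isoSpec.inv ≫ X.hom = X'.hom
    rw [Category.assoc, ← Spec.map_comp_assoc,
      show (CommRingCat.ofHom Polynomial.C ≫ CommRingCat.ofHom (Polynomial.eval₂RingHom g.left.appTop.hom a)) =
        g.left.appTop from CommRingCat.hom_ext (RingHom.ext fun r => Polynomial.eval₂_C _ _),
      ← Scheme.toSpecΓ_naturality_assoc, ← Scheme.isoSpec_hom, Iso.hom_inv_id_assoc, Over.w g])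

theorem polyPt_appTop {X X' : Over S} [IsAffine X.left] (g : X' ⟶ X) (a : Γ(X'.left, ⊤))
    (P : Polynomial Γ(X.left, ⊤)) :
    (polyPt g a).left.appTop (polyFn X P) = P.eval₂ g.left.appTop.hom a :=
  toSpec_appTop (Polynomial.eval₂RingHom g.left.appTop.hom a) P

variable {G T : Over S} [GrpObj G] [GrpObj T] {i : T ⟶ G} {α : T ⟶ Red.Gm S} {pp pm : Red.Ga S ⟶ G}

/-- Torus points moving the argument of `p` by generic scalars. -/
def WeightCover (i : T ⟶ G) (α : T ⟶ Red.Gm S) (p : Red.Ga S ⟶ G) (q : ℕ) : Prop :=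
  ∀ (X : Over S) (m : ℕ), 0 < m → ∃ (X' : Over S) (f : X' ⟶ X) (r : (Γ(X'.left, ⊤))ˣ) (t : X' ⟶ T),
    Flat f.left ∧ Surjective f.left ∧ IsUnit ((r : Γ(X'.left, ⊤)) ^ m - 1) ∧ Sys.rt α t = r ^ q ∧
    ∀ (X'' : Over S) (g : X'' ⟶ X') (a : Γ(X''.left, ⊤)),
      gaPt (g.left.appTop (r : Γ(X'.left, ⊤)) * a) ≫ p =
        ((g ≫ t) ≫ i) * (gaPt a ≫ p) * ((g ≫ t) ≫ i)⁻¹

theorem isUnit_pow_sub_one {R : Type*} [CommRing R] {r : R} {j m : ℕ} (hdvd : j ∣ m) (h : IsUnit (r ^ m - 1)) :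
    IsUnit (r ^ j - 1) := by
  obtain ⟨l, rfl⟩ := hdvd
  rw [pow_mul] at h
  exact isUnit_of_dvd_unit (sub_one_dvd_pow_sub_one (r ^ j) l) h

/-- A geometric point, with affine source and a field of functions. -/
theorem exists_field_point (X : Over S) (z : X.left) :
    ∃ (X' : Over S) (f : X' ⟶ X), IsAffine X'.left ∧ Nonempty X'.left ∧ IsField Γ(X'.left, ⊤) ∧
      ∀ w : X'.left, f.left w = z := by
  let L := AlgebraicClosure (X.left.residueField z)
  refine ⟨Over.mk (Red.geomPt z ≫ X.hom), Over.homMk (Red.geomPt z),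
    show IsAffine (Spec (CommRingCat.of L)) from inferInstance,
    show Nonempty ↥(Spec (CommRingCat.of L)) from inferInstance, ?_, fun w => ?_⟩
  · exact MulEquiv.isField (Field.toIsField L)
      (Scheme.ΓSpecIso (CommRingCat.of L)).commRingCatIsoToRingEquiv.toMulEquiv
  · exact (Scheme.Hom.comp_apply _ _ _).trans (Scheme.fromSpecResidueField_apply _ _)

theorem InCell.conj [IsMonHom i] (hP : NormP i α pp) (hM : NormM i α pm) (hT : Red.IsTorus T) {X : Over S}
    (t : X ⟶ T) {g : X ⟶ G} (h : InCell i pp pm g) : InCell i pp pm ((t ≫ i) * g * (t ≫ i)⁻¹) := by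
  obtain ⟨y, t', x, rfl⟩ := h
  exact ⟨_, t', _, by rw [← gaPt_gaFn y, ← gaPt_gaFn x]; exact conj_cell hP hM hT t t' _ _⟩

variable {p : Red.Ga S ⟶ G} {q : ℕ}

/-- The whole of `p` lies in the cell. -/
theorem inCell_of_weight [IsMonHom i] [IsMonHom pp] [IsMonHom pm] [IsMonHom p]
    [IsOpenImmersion (cellMap i pp pm).left] (hP : NormP i α pp) (hM : NormM i α pm) (hT : Red.IsTorus T)
    (hw : WeightCover i α p q) {X : Over S} (x : X ⟶ Red.Ga S) : InCell i pp pm (x ≫ p) := by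
  rw [inCell_iff]
  rintro _ ⟨z, rfl⟩
  obtain ⟨X₂, e₂, haff, hne₂, hF₂, he₂⟩ := exists_field_point X z
  haveI := haff
  letI := hF₂.toField
  let g : polyObj X₂ ⟶ G := gaPt (polyFn X₂ Polynomial.X) ≫ p
  let V : (polyObj X₂).left.Opens := g.left ⁻¹ᵁ (cellMap i pp pm).left.opensRange
  have hz : ∀ {X' : Over S} (f : X' ⟶ X₂) (a : Γ(X'.left, ⊤)), polyPt f a ≫ g = gaPt a ≫ p := fun f a => by
    simp only [g, ← Category.assoc, gaPt_comp, polyPt_appTop, Polynomial.eval₂_X]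
  have hzero : ∀ X' : Over S, InCell i pp pm (gaPt (0 : Γ(X'.left, ⊤)) ≫ p) := fun X' => by
    rw [show gaPt (0 : Γ(X'.left, ⊤)) = 1 from gaPt_ext (by rw [gaFn_gaPt, gaFn_one]), MonObj.one_comp]
    exact inCell_one
  obtain ⟨z₂⟩ := hne₂
  have h00 := hzero X₂
  rw [← hz (𝟙 X₂) 0, inCell_iff] at h00
  have h0 : (polyPt (𝟙 X₂) (0 : Γ(X₂.left, ⊤))).left z₂ ∈ V := by
    have h1 := h00 ⟨z₂, rfl⟩
    have e : (polyPt (𝟙 X₂) (0 : Γ(X₂.left, ⊤)) ≫ g).left z₂ = g.left ((polyPt (𝟙 X₂) (0 : Γ(X₂.left, ⊤))).left z₂) :=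
      Scheme.Hom.comp_apply _ _ _
    rw [e] at h1
    exact h1
  obtain ⟨_, ⟨_, ⟨h, rfl⟩, rfl⟩, hmem, hsub⟩ :=
    (PrimeSpectrum.isBasis_basic_opens (R := Polynomial Γ(X₂.left, ⊤))).exists_subset_of_mem_open h0 V.isOpen
  have hh : h ≠ 0 := fun h00 => by
    have := hmem
    rw [h00, PrimeSpectrum.basicOpen_zero] at this
    exact this
  have hgood : ∀ {X' : Over S} (f : X' ⟶ X₂) (a : Γ(X'.left, ⊤)), IsUnit (h.eval₂ f.left.appTop.hom a) →
      InCell i pp pm (gaPt a ≫ p) := by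
    intro X' f a hu
    rw [← hz f, inCell_iff]
    rintro _ ⟨w, rfl⟩
    refine hsub ?_
    have h1 : w ∈ (polyPt f a).left ⁻¹ᵁ (polyObj X₂).left.basicOpen (polyFn X₂ h) := by
      rw [Scheme.preimage_basicOpen_top, polyPt_appTop, X'.left.basicOpen_of_isUnit hu]; trivial
    erw [basicOpen_eq_of_affine] at h1
    exact h1
  let n := h.natDegree
  obtain ⟨X₃, f₃, r, t, hf₃, hs₃, hr, -, hconj⟩ := hw X₂ (n + 1).factorial (Nat.factorial_pos _)
  obtain ⟨z₃, hz₃⟩ := hs₃.surj z₂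
  obtain ⟨X₄, e₄, haff₄, hne₄, hF₄, he₄⟩ := exists_field_point X₃ z₃
  letI := hF₄.toField
  obtain ⟨z₄⟩ := hne₄
  let f : X₄ ⟶ X₂ := e₄ ≫ f₃
  set a : Γ(X₄.left, ⊤) := Red.gaFn ((f ≫ e₂) ≫ x)
  set R : Γ(X₄.left, ⊤) := e₄.left.appTop (r : Γ(X₃.left, ⊤))
  have hR : IsUnit R := r.isUnit.map e₄.left.appTop.hom
  have hRm : R ^ (n + 1).factorial - 1 ≠ 0 := by
    have := hr.map e₄.left.appTop.hom
    rw [map_sub, map_pow, map_one] at this
    exact this.ne_zero
  have hcell : InCell i pp pm (gaPt a ≫ p) := by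
    rcases eq_or_ne a 0 with ha | ha
    · rw [ha]; exact hzero X₄
    by_contra hbad
    have hbadj : ∀ j : ℕ, ¬ InCell i pp pm (gaPt (R ^ j * a) ≫ p) := by
      intro j
      induction j with
      | zero => rwa [pow_zero, one_mul]
      | succ j ih =>
        intro hin
        refine ih ?_
        rw [pow_succ', mul_assoc, hconj X₄ e₄] at hin
        have h1 := hin.conj hP hM hT (e₄ ≫ t)⁻¹
        rw [GrpObj.inv_comp, inv_inv] at h1
        convert h1 using 1
        group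
    let φ : Γ(X₂.left, ⊤) →+* Γ(X₄.left, ⊤) := f.left.appTop.hom
    have hh' : h.map φ ≠ 0 := (Polynomial.map_ne_zero_iff φ.injective).2 hh
    have hroot : ∀ j : ℕ, (h.map φ).IsRoot (R ^ j * a) := fun j => by
      by_contra hne
      rw [Polynomial.IsRoot, Polynomial.eval_map] at hne
      exact hbadj j (hgood f _ (isUnit_iff_ne_zero.2 hne))
    have hinj : Function.Injective fun j : Fin (n + 1) => R ^ (j : ℕ) * a := by
      intro j k hjk
      by_contra hne
      wlog hlt : (j : ℕ) < k generalizing j k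
      · exact this hjk.symm (Ne.symm hne) (by omega)
      have h1 : R ^ (j : ℕ) * (R ^ ((k : ℕ) - j) - 1) = 0 := by
        rw [mul_sub, ← pow_add, Nat.add_sub_cancel' hlt.le, mul_one]
        linear_combination (mul_right_cancel₀ ha hjk).symm
      have h2 := (mul_eq_zero.1 h1).resolve_left (hR.pow _).ne_zero
      obtain ⟨l, hl⟩ := Nat.dvd_factorial (show 0 < (k : ℕ) - j by omega) (show (k : ℕ) - j ≤ n + 1 by omega)
      exact hRm (by rw [hl, pow_mul, sub_eq_zero.1 h2, one_pow, sub_self])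
    classical
    have hcard : (Finset.univ.image fun j : Fin (n + 1) => R ^ (j : ℕ) * a).card ≤ (h.map φ).natDegree := by
      refine Polynomial.card_le_degree_of_subset_roots fun y hy => ?_
      obtain ⟨j, -, rfl⟩ := Finset.mem_image.1 (Finset.mem_def.2 hy)
      exact (Polynomial.mem_roots hh').2 (hroot j)
    rw [Finset.card_image_of_injective _ hinj, Finset.card_univ, Fintype.card_fin] at hcard
    have := Polynomial.natDegree_map_le (p := h) (f := φ)
    omega
  rw [gaPt_gaFn, Category.assoc, inCell_iff] at hcell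
  have h5 : ((f ≫ e₂) ≫ x ≫ p).left z₄ = (x ≫ p).left z := by
    exact (Scheme.Hom.comp_apply _ _ _).trans (congrArg _ ((Scheme.Hom.comp_apply _ _ _).trans (he₂ _)))
  exact h5 ▸ hcell ⟨z₄, rfl⟩

/-- Killing a function on an affine cover. -/
theorem eq_zero_of_cover {X X' : Over S} (f : X' ⟶ X) [Flat f.left] [Surjective f.left] (a : Γ(X.left, ⊤))
    (h : ∀ (X'' : Over S) (g : X'' ⟶ X'), IsAffine X''.left → g.left.appTop (f.left.appTop a) = 0) : a = 0 := by
  haveI := epi_of_flat_surjective f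
  have h1 : (gaPt a : X ⟶ Red.Ga S) = gaPt 0 := by
    rw [← cancel_epi f]
    refine ext_affine fun X'' g hA => ?_
    rw [gaPt_comp, gaPt_comp, gaPt_comp, gaPt_comp, map_zero, map_zero, h X'' g hA]
  simpa [gaFn_gaPt] using congrArg Red.gaFn h1

/-- `p` is a scaled power map into the positive root group, over an affine scheme. -/
theorem eq_power_affine [IsMonHom i] [IsMonHom pp] [IsMonHom pm] [IsMonHom p]
    [IsOpenImmersion (cellMap i pp pm).left] (hP : NormP i α pp) (hM : NormM i α pm) (hT : Red.IsTorus T)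
    (hw : WeightCover i α p q) (X : Over S) [IsAffine X.left] :
    ∃ c : Γ(X.left, ⊤), ∀ (X' : Over S) (g : X' ⟶ X) (a : Γ(X'.left, ⊤)),
      gaPt a ≫ p = gaPt (g.left.appTop c * a ^ q) ≫ pp := by
  have hcell : ∀ {X' : Over S} (x : X' ⟶ Red.Ga S), InCell i pp pm (x ≫ p) :=
    fun x => inCell_of_weight hP hM hT hw x
  obtain ⟨yU, τU, zU, hU⟩ := hcell (gaPt (polyFn X Polynomial.X) : polyObj X ⟶ Red.Ga S)
  obtain ⟨Y, hY⟩ := polyFn_surjective X (Red.gaFn yU)
  obtain ⟨Z, hZ⟩ := polyFn_surjective X (Red.gaFn zU)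
  have hev : ∀ {X' : Over S} (g : X' ⟶ X) (a : Γ(X'.left, ⊤)), gaPt a ≫ p =
      (gaPt (Y.eval₂ g.left.appTop.hom a) ≫ pm) * ((polyPt g a ≫ τU) ≫ i) *
        (gaPt (Z.eval₂ g.left.appTop.hom a) ≫ pp) := by
    intro X' g a
    have h := congrArg (polyPt g a ≫ ·) hU
    simp only [MonObj.comp_mul, ← Category.assoc, gaPt_comp] at h
    rw [polyPt_appTop, Polynomial.eval₂_X] at h
    rw [h, ← gaPt_gaFn yU, ← gaPt_gaFn zU, gaPt_comp, gaPt_comp, ← hY, ← hZ, polyPt_appTop, polyPt_appTop]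
  have h0 : ∀ {X' : Over S} (g : X' ⟶ X), Y.eval₂ g.left.appTop.hom 0 = 0 ∧
      polyPt g (0 : Γ(X'.left, ⊤)) ≫ τU = 1 ∧ Z.eval₂ g.left.appTop.hom 0 = 0 := by
    intro X' g
    have h := hev g (0 : Γ(X'.left, ⊤))
    rw [show gaPt (0 : Γ(X'.left, ⊤)) = 1 from gaPt_ext (by rw [gaFn_gaPt, gaFn_one]), MonObj.one_comp] at h
    have h' : ((1 : X' ⟶ Red.Ga S) ≫ pm) * ((1 : X' ⟶ T) ≫ i) * ((1 : X' ⟶ Red.Ga S) ≫ pp) = 1 := by
      simp [MonObj.one_comp]
    obtain ⟨hy, ht, hz⟩ := cell_inj (h.symm.trans h'.symm)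
    refine ⟨?_, ht, ?_⟩
    · simpa [gaFn_gaPt, gaFn_one] using congrArg Red.gaFn hy
    · simpa [gaFn_gaPt, gaFn_one] using congrArg Red.gaFn hz
  let n := Y.natDegree + Z.natDegree + q + 1
  obtain ⟨X₁, f, r, t, hf, hs, hr, hrt, hconj⟩ := hw X n.factorial (Nat.factorial_pos _)
  haveI := hf; haveI := hs; haveI := epi_of_flat_surjective f
  have hscale : ∀ {X' : Over S} (g : X' ⟶ X₁) (a : Γ(X'.left, ⊤)),
      g.left.appTop (r : Γ(X₁.left, ⊤)) ^ q * Y.eval₂ (g ≫ f).left.appTop.hom (g.left.appTop (r : Γ(X₁.left, ⊤)) * a) =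
          Y.eval₂ (g ≫ f).left.appTop.hom a ∧
        polyPt (g ≫ f) (g.left.appTop (r : Γ(X₁.left, ⊤)) * a) ≫ τU = polyPt (g ≫ f) a ≫ τU ∧
        Z.eval₂ (g ≫ f).left.appTop.hom (g.left.appTop (r : Γ(X₁.left, ⊤)) * a) =
          g.left.appTop (r : Γ(X₁.left, ⊤)) ^ q * Z.eval₂ (g ≫ f).left.appTop.hom a := by
    intro X' g a
    set R := g.left.appTop (r : Γ(X₁.left, ⊤))
    have h := hconj X' g a
    rw [hev (g ≫ f), hev (g ≫ f), conj_cell hP hM hT] at h
    obtain ⟨hy, ht, hz⟩ := cell_inj h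
    have hrtg : (Sys.rt α (g ≫ t) : Γ(X'.left, ⊤)) = R ^ q := by
      change Red.gmFn ((g ≫ t) ≫ α) = _
      rw [Category.assoc, GmPts.gmFn_comp, ← GmPts.val_unitOfPt, show GmPts.unitOfPt (t ≫ α) = r ^ q from hrt,
        Units.val_pow_eq_pow_val, map_pow]
    have hy' := congrArg Red.gaFn hy
    have hz' := congrArg Red.gaFn hz
    rw [gaFn_gaPt, gaFn_gaPt] at hy' hz'
    refine ⟨?_, ht, ?_⟩
    · rw [hy', ← hrtg, ← mul_assoc, Units.mul_inv, one_mul]
    · rw [hz', hrtg]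
  have hdvd : ∀ j, 0 < j → j ≤ n → IsUnit ((r : Γ(X₁.left, ⊤)) ^ j - 1) := fun j h1 h2 =>
    isUnit_pow_sub_one (Nat.dvd_factorial h1 h2) hr
  have hcoef : ∀ (X'' : Over S) (g : X'' ⟶ X₁), IsAffine X''.left → ∀ j,
      (g ≫ f).left.appTop (Y.coeff j) * (g.left.appTop (r : Γ(X₁.left, ⊤)) ^ (j + q) - 1) = 0 ∧
      (g ≫ f).left.appTop (Z.coeff j) * (g.left.appTop (r : Γ(X₁.left, ⊤)) ^ j -
        g.left.appTop (r : Γ(X₁.left, ⊤)) ^ q) = 0 := by
    intro X'' g hA j
    haveI := hA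
    set R := g.left.appTop (r : Γ(X₁.left, ⊤))
    set φ := (g ≫ f).left.appTop.hom
    let π : polyObj X'' ⟶ X'' := Over.homMk (Spec.map (CommRingCat.ofHom Polynomial.C) ≫ X''.left.isoSpec.inv)
      (Category.assoc _ _ _)
    have hπ : ∀ b, π.left.appTop b = polyFn X'' (Polynomial.C b) := by
      intro b
      change (Spec.map (CommRingCat.ofHom Polynomial.C) ≫ X''.left.isoSpec.inv).appTop b = _
      rw [Scheme.Hom.comp_appTop, CommRingCat.comp_apply]
      have e1 : X''.left.isoSpec.inv.appTop b = (Scheme.ΓSpecIso Γ(X''.left, ⊤)).inv b := by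
        have h := congrArg (fun m => m.appTop b) (Scheme.toSpecΓ_isoSpec_inv X''.left)
        simp only [Scheme.Hom.comp_appTop, CommRingCat.comp_apply, Scheme.toSpecΓ_appTop, Scheme.Hom.id_appTop,
          CommRingCat.id_apply] at h
        conv_rhs => rw [← h]
        rw [← CommRingCat.comp_apply, Iso.hom_inv_id, CommRingCat.id_apply]
      rw [e1]
      exact (congrArg (fun m => (CommRingCat.Hom.hom m) b)
        (Scheme.ΓSpecIso_inv_naturality (CommRingCat.ofHom (Polynomial.C : Γ(X''.left, ⊤) →+* _)))).symm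
    obtain ⟨hy, -, hz⟩ := hscale (π ≫ g) (polyFn X'' Polynomial.X)
    let ψ : Polynomial Γ(X''.left, ⊤) →+* Γ((polyObj X'').left, ⊤) :=
      (Scheme.ΓSpecIso (CommRingCat.of (Polynomial Γ(X''.left, ⊤)))).inv.hom
    have hψ : ((π ≫ g) ≫ f).left.appTop.hom = ψ.comp (Polynomial.C.comp φ) :=
      RingHom.ext fun b => hπ ((g ≫ f).left.appTop b)
    have hR : (π ≫ g).left.appTop (r : Γ(X₁.left, ⊤)) = ψ (Polynomial.C R) := hπ R
    have hX : polyFn X'' Polynomial.X = ψ Polynomial.X := rfl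
    rw [hψ, hR, hX, ← map_mul, ← map_pow, ← Polynomial.hom_eval₂, ← Polynomial.hom_eval₂,
      ← map_mul] at hy hz
    have hy' := congrArg (fun P => Polynomial.coeff P j) (polyFn_injective X'' hy)
    have hz' := congrArg (fun P => Polynomial.coeff P j) (polyFn_injective X'' hz)
    have e : ∀ W : Polynomial Γ(X.left, ⊤), W.eval₂ (Polynomial.C.comp φ) (Polynomial.C R * Polynomial.X) =
        (W.map φ).comp (Polynomial.C R * Polynomial.X) := fun W => by
      rw [Polynomial.comp, Polynomial.eval₂_map]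
    have e' : ∀ W : Polynomial Γ(X.left, ⊤), W.eval₂ (Polynomial.C.comp φ) Polynomial.X = W.map φ := fun W => rfl
    simp only [e, e', ← map_pow, Polynomial.coeff_C_mul, Polynomial.comp_C_mul_X_coeff, Polynomial.coeff_map] at hy' hz'
    refine ⟨?_, ?_⟩
    · rw [pow_add]; linear_combination hy'
    · linear_combination hz'
  have hY0 : Y = 0 := Polynomial.ext fun j => by
    rw [Polynomial.coeff_zero]
    by_cases hj : Y.natDegree < j
    · exact Polynomial.coeff_eq_zero_of_natDegree_lt hj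
    rcases Nat.eq_zero_or_pos (j + q) with h | h
    · obtain rfl : j = 0 := by omega
      have h1 := (h0 (𝟙 X)).1
      rw [Polynomial.eval₂_at_zero] at h1
      exact h1
    refine eq_zero_of_cover f _ fun X'' g hA => ?_
    have h1 := (hcoef X'' g hA j).1
    rw [← map_pow, ← map_one g.left.appTop.hom, ← map_sub] at h1
    exact ((hdvd _ h (by omega)).map g.left.appTop.hom).mul_left_eq_zero.1 h1
  have hZq : Z = Polynomial.monomial q (Z.coeff q) := Polynomial.ext fun j => by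
    rw [Polynomial.coeff_monomial]
    split_ifs with hqj
    · rw [hqj]
    by_cases hj : Z.natDegree < j
    · exact Polynomial.coeff_eq_zero_of_natDegree_lt hj
    refine eq_zero_of_cover f _ fun X'' g hA => ?_
    have h1 := (hcoef X'' g hA j).2
    set R := g.left.appTop (r : Γ(X₁.left, ⊤))
    have hu : IsUnit (R ^ j - R ^ q) := by
      have hR : IsUnit R := r.isUnit.map g.left.appTop.hom
      rcases Nat.lt_or_gt_of_ne hqj with hlt | hlt
      · rw [show R ^ j - R ^ q = R ^ q * (R ^ (j - q) - 1) by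
          rw [mul_sub, ← pow_add, Nat.add_sub_cancel' hlt.le, mul_one]]
        refine (hR.pow _).mul ?_
        have := (hdvd (j - q) (by omega) (by omega)).map g.left.appTop.hom
        rwa [map_sub, map_pow, map_one] at this
      · rw [show R ^ j - R ^ q = -(R ^ j * (R ^ (q - j) - 1)) by
          rw [mul_sub, ← pow_add, Nat.add_sub_cancel' hlt.le]; ring]
        refine ((hR.pow _).mul ?_).neg
        have := (hdvd (q - j) (by omega) (by omega)).map g.left.appTop.hom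
        rwa [map_sub, map_pow, map_one] at this
    exact hu.mul_left_eq_zero.1 h1
  have hp2 : ∀ {X' : Over S} (g : X' ⟶ X) (a : Γ(X'.left, ⊤)), gaPt a ≫ p =
      ((polyPt g a ≫ τU) ≫ i) * (gaPt (g.left.appTop (Z.coeff q) * a ^ q) ≫ pp) := by
    intro X' g a
    rw [hev g a, hY0, hZq, Polynomial.eval₂_zero, Polynomial.eval₂_monomial,
      show gaPt (0 : Γ(X'.left, ⊤)) = 1 from gaPt_ext (by rw [gaFn_gaPt, gaFn_one]), MonObj.one_comp, one_mul]
    simp [Polynomial.coeff_monomial]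
  refine ⟨Z.coeff q, fun X' g a => ?_⟩
  suffices ht : polyPt g a ≫ τU = 1 by rw [hp2 g a, ht, MonObj.one_comp, one_mul]
  -- the torus component is additive and invariant under scaling by `r`
  let W := Limits.pullback g.left f.left
  let X₂ : Over S := Over.mk (Limits.pullback.fst g.left f.left ≫ X'.hom)
  let π₁ : X₂ ⟶ X' := Over.homMk (Limits.pullback.fst g.left f.left)
  let π₂ : X₂ ⟶ X₁ := Over.homMk (Limits.pullback.snd g.left f.left) (by
    change _ ≫ X₁.hom = Limits.pullback.fst g.left f.left ≫ X'.hom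
    rw [← Over.w f, ← Over.w g, ← Category.assoc, ← Category.assoc, Limits.pullback.condition])
  have hπ : π₁ ≫ g = π₂ ≫ f := Over.OverMorphism.ext Limits.pullback.condition
  haveI : Flat π₁.left := inferInstanceAs (Flat (Limits.pullback.fst g.left f.left))
  haveI : Surjective π₁.left := inferInstanceAs (Surjective (Limits.pullback.fst g.left f.left))
  haveI := epi_of_flat_surjective π₁
  set R := π₂.left.appTop (r : Γ(X₁.left, ⊤))
  have hpt : ∀ {X' X'' : Over S} (e : X'' ⟶ X') (g : X' ⟶ X) (a : Γ(X'.left, ⊤)),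
      e ≫ polyPt g a ≫ τU = polyPt (e ≫ g) (e.left.appTop a) ≫ τU := by
    intro X' X'' e g a
    have h := congrArg (e ≫ ·) (hp2 g a)
    simp only [MonObj.comp_mul, ← Category.assoc, gaPt_comp, map_mul, map_pow] at h
    rw [hp2 (e ≫ g), Over.comp_left, Scheme.Hom.comp_appTop, CommRingCat.comp_apply] at h
    have h' : ((1 : X'' ⟶ Red.Ga S) ≫ pm) * ((polyPt (e ≫ g) (e.left.appTop a) ≫ τU) ≫ i) *
        (gaPt (e.left.appTop (g.left.appTop (Z.coeff q)) * e.left.appTop a ^ q) ≫ pp) =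
        ((1 : X'' ⟶ Red.Ga S) ≫ pm) * ((e ≫ polyPt g a ≫ τU) ≫ i) *
        (gaPt (e.left.appTop (g.left.appTop (Z.coeff q)) * e.left.appTop a ^ q) ≫ pp) := by
      rw [MonObj.one_comp, one_mul, one_mul]
      simpa only [Category.assoc] using h
    exact (cell_inj h').2.1.symm
  have hadd : ∀ b d : Γ(X₂.left, ⊤), polyPt (π₂ ≫ f) (b + d) ≫ τU =
      (polyPt (π₂ ≫ f) b ≫ τU) * (polyPt (π₂ ≫ f) d ≫ τU) := by
    intro b d
    set τb := polyPt (π₂ ≫ f) b ≫ τU
    set τd := polyPt (π₂ ≫ f) d ≫ τU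
    have h : gaPt (b + d) ≫ p = (gaPt b ≫ p) * (gaPt d ≫ p) := by rw [gaPt_add, MonObj.mul_comp]
    rw [hp2 (π₂ ≫ f), hp2 (π₂ ≫ f), hp2 (π₂ ≫ f)] at h
    set C := (π₂ ≫ f).left.appTop (Z.coeff q)
    have e := hP.apply τd⁻¹ (C * b ^ q)
    rw [GrpObj.inv_comp, inv_inv] at e
    have h' : ((1 : X₂ ⟶ Red.Ga S) ≫ pm) * ((polyPt (π₂ ≫ f) (b + d) ≫ τU) ≫ i) * (gaPt (C * (b + d) ^ q) ≫ pp) =
        ((1 : X₂ ⟶ Red.Ga S) ≫ pm) * ((τb * τd) ≫ i) *
          (gaPt ((Sys.rt α τd⁻¹ : Γ(X₂.left, ⊤)) * (C * b ^ q) + C * d ^ q) ≫ pp) := by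
      rw [MonObj.one_comp, one_mul, one_mul, h, gaPt_add, MonObj.mul_comp _ _ pp, ← e, MonObj.mul_comp τb τd i]
      simp only [τb, τd]
      group
    exact (cell_inj h').2.1
  have hinv : ∀ b : Γ(X₂.left, ⊤), polyPt (π₂ ≫ f) (R * b) ≫ τU = polyPt (π₂ ≫ f) b ≫ τU :=
    fun b => (hscale π₂ b).2.1
  obtain ⟨u, hu⟩ : IsUnit (R - 1) := by
    have := (hdvd 1 one_pos (Nat.le_add_left _ _)).map π₂.left.appTop.hom
    rwa [pow_one, map_sub, map_one] at this
  rw [← cancel_epi π₁, MonObj.comp_one, hpt, hπ]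
  set b : Γ(X₂.left, ⊤) := ↑u⁻¹ * π₁.left.appTop a
  have hb : b + π₁.left.appTop a = R * b := by
    simp only [b]
    linear_combination (↑u⁻¹ * π₁.left.appTop a) * hu - π₁.left.appTop a * Units.inv_mul u
  have h1 := hinv b
  rw [← hb, hadd] at h1
  exact mul_eq_left.1 h1

/-- `p` is a scaled power map into the positive root group. -/
theorem eq_power [IsMonHom i] [IsMonHom pp] [IsMonHom pm] [IsMonHom p]
    [IsOpenImmersion (cellMap i pp pm).left] (hP : NormP i α pp) (hM : NormM i α pm) (hT : Red.IsTorus T)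
    (hw : WeightCover i α p q) :
    ∃ c : Γ((𝟙_ (Over S)).left, ⊤), ∀ (X : Over S) (a : Γ(X.left, ⊤)),
      gaPt a ≫ p = gaPt ((toUnit X).left.appTop c * a ^ q) ≫ pp := by
  obtain ⟨y, t, x, h1⟩ := inCell_of_weight hP hM hT hw (gaPt (1 : Γ((𝟙_ (Over S)).left, ⊤)))
  refine ⟨Red.gaFn x, fun X a => ext_affine fun X' g hA => ?_⟩
  haveI := hA
  obtain ⟨c, hc⟩ := eq_power_affine hP hM hT hw X'
  have h2 := hc X' (𝟙 X') 1
  have hid : ((𝟙 X' : X' ⟶ X')).left.appTop c = c := by simp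
  rw [hid, one_pow, mul_one] at h2
  have h3 := congrArg (toUnit X' ≫ ·) h1
  simp only [MonObj.comp_mul, ← Category.assoc, gaPt_comp, map_one] at h3
  rw [h2] at h3
  have h' : ((1 : X' ⟶ Red.Ga S) ≫ pm) * ((1 : X' ⟶ T) ≫ i) * (gaPt c ≫ pp) =
      ((toUnit X' ≫ y) ≫ pm) * ((toUnit X' ≫ t) ≫ i) * ((toUnit X' ≫ x) ≫ pp) := by
    rw [MonObj.one_comp, MonObj.one_comp, one_mul, one_mul]; exact h3
  have hcx : c = (toUnit X').left.appTop (Red.gaFn x) := by
    have := congrArg Red.gaFn (cell_inj h').2.2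
    rwa [gaFn_gaPt, gaFn_comp] at this
  rw [← Category.assoc, ← Category.assoc, gaPt_comp, gaPt_comp, hc X' (𝟙 X'), map_mul, map_pow]
  congr 2
  simp only [Over.id_left, Scheme.Hom.id_appTop, CommRingCat.id_apply]
  rw [hcx, ← CommRingCat.comp_apply, ← Scheme.Hom.comp_appTop, ← Over.comp_left, toUnit_unique (g ≫ toUnit X) (toUnit X')]

end Groth.Agent.RedR1
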