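import Groth.Agent.RedR1.Gen

/-!
# The Weyl element and the two translates of the cell
-/

set_option autoImplicit false
set_option linter.style.haveILetI false

universe u

open CategoryTheory MonoidalCategory CartesianMonoidalCategory AlgebraicGeometry
open scoped CategoryTheory.MonObj CategoryTheory.GrpObj
open Groth.Agent.BGaNotS (gaPt gaFn_gaPt gaPt_ext gaFn_comp gaFn_mul gaFn_one)

noncomputable section

namespace Groth.Agent.RedR1

variable {S : Scheme.{u}}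

/-- A point with values in an algebraically closed field over a given point. -/
theorem exists_geom_point (X : Over S) (q : X.left) :
    ∃ (X' : Over S) (f : X' ⟶ X), (∀ z : X'.left, f.left z = q) ∧ Nonempty X'.left ∧
      (∀ a : Γ(X'.left, ⊤), a = 0 ∨ IsUnit a) ∧
      ∀ m : ℕ, 0 < m → ∃ v : (Γ(X'.left, ⊤))ˣ, (v : Γ(X'.left, ⊤)) ^ m ≠ 1 := by
  let L := AlgebraicClosure (X.left.residueField q)
  refine ⟨Over.mk (Red.geomPt q ≫ X.hom), Over.homMk (Red.geomPt q), fun z => ?_,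
    show Nonempty ↥(Spec (CommRingCat.of L)) from inferInstance, ?_, fun m hm => ?_⟩
  · exact (Scheme.Hom.comp_apply _ _ _).trans (Scheme.fromSpecResidueField_apply _ _)
  · intro a
    change a = (0 : Γ(Spec (CommRingCat.of L), ⊤)) ∨ _
    let e := (Scheme.ΓSpecIso (CommRingCat.of L)).commRingCatIsoToRingEquiv
    rcases eq_or_ne (e a) 0 with h | h
    · exact Or.inl (e.map_eq_zero_iff.1 h)
    · exact Or.inr ((MulEquiv.isUnit_map e.toMulEquiv).1 h.isUnit)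
  · let e := (Scheme.ΓSpecIso (CommRingCat.of L)).commRingCatIsoToRingEquiv
    let p : Polynomial L := Polynomial.X * (Polynomial.X ^ m - Polynomial.C 1)
    have hp : p ≠ 0 := mul_ne_zero Polynomial.X_ne_zero (Polynomial.monic_X_pow_sub_C 1 hm.ne').ne_zero
    classical
    obtain ⟨l, hl⟩ := Infinite.exists_notMem_finset p.roots.toFinset
    rw [Multiset.mem_toFinset, Polynomial.mem_roots hp] at hl
    simp only [p, Polynomial.IsRoot, Polynomial.eval_mul, Polynomial.eval_X, Polynomial.eval_sub,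
      Polynomial.eval_pow, Polynomial.eval_C, mul_eq_zero, sub_eq_zero, not_or] at hl
    refine ⟨Units.map e.symm.toMonoidHom (Units.mk0 l hl.1), fun h => hl.2 ?_⟩
    have h' := congrArg e h
    change e ((e.symm l) ^ m) = e 1 at h'
    rwa [map_pow, RingEquiv.apply_symm_apply, map_one] at h'

variable {G T : Over S} [GrpObj G] [GrpObj T] {i : T ⟶ G} {α : T ⟶ Red.Gm S} {pp pm : Red.Ga S ⟶ G}
  {av : Red.Gm S ⟶ T}

theorem Calc.H_zpow {G R : Type*} [Group G] [CommRing R] (C : Calc G R) (v : Rˣ) (n : ℤ) :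
    C.H (v ^ n) = C.H v ^ n :=
  map_zpow (MonoidHom.mk' C.H C.H_mul) v n

/-- Powers of the coroot in the notation of the statements. -/
theorem Sys.zpow_eq_H (s : Sys i α pp pm av) {X : Over S} (z : X ⟶ Red.Gm S) (n : ℤ) :
    ((z ≫ av) ^ n) ≫ i = (s.calc' X).H (GmPts.unitOfPt z ^ n) := by
  haveI := s.hi
  rw [GrpObj.zpow_comp, Calc.H_zpow, Category.assoc, s.calc'_H z (v := GmPts.unitOfPt z) rfl]

theorem Sys.comp_H (s : Sys i α pp pm av) {X X' : Over S} (g : X' ⟶ X) (v : (Γ(X.left, ⊤))ˣ) :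
    g ≫ (s.calc' X).H v = (s.calc' X').H (Units.map g.left.appTop.hom.toMonoidHom v) := by
  change g ≫ ((GmPts.ptOfUnit v : X ⟶ Red.Gm S) ≫ av) ≫ i = _
  rw [← Category.assoc, ← Category.assoc, GmPts.ptOfUnit_comp]
  rfl

/-- Over a field, the product of two cell elements lies in `Ω ∪ w Ω`. -/
theorem Sys.mul_cell_or (s : Sys i α pp pm av) {X : Over S}
    (hfield : ∀ a : Γ(X.left, ⊤), a = 0 ∨ IsUnit a) (t t' : X ⟶ T) (x y x' : Γ(X.left, ⊤)) :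
    InCell i pp pm (((s.calc' X).P x) * (t ≫ i) * ((s.calc' X).M y) * (t' ≫ i) * ((s.calc' X).P x')) ∨
      InCell i pp pm (((s.calc' X).w 1)⁻¹ *
        (((s.calc' X).P x) * (t ≫ i) * ((s.calc' X).M y) * (t' ≫ i) * ((s.calc' X).P x'))) := by
  haveI := s.hi; haveI := s.hpph; haveI := s.hpmh; haveI := s.havh
  set C := s.calc' X with hC
  set y₁ := (↑(rt α t)⁻¹ : Γ(X.left, ⊤)) * y with hy₁
  have e0 : C.P x * (t ≫ i) * C.M y * (t' ≫ i) * C.P x' = C.P x * C.M y₁ * ((t * t') ≫ i) * C.P x' := by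
    rw [show C.M y₁ = (t ≫ i) * C.M y * (t ≫ i)⁻¹ from (s.conj_M t y).symm, MonObj.mul_comp]
    group
  rw [e0]
  rcases hfield (1 + x * y₁) with h | h
  · right
    have hx : IsUnit x := by
      refine IsUnit.of_mul_eq_one (-y₁) ?_
      linear_combination -h
    obtain ⟨a, rfl⟩ := hx
    have hy : y₁ = -(↑a⁻¹ : Γ(X.left, ⊤)) := by
      linear_combination (↑a⁻¹ : Γ(X.left, ⊤)) * h - y₁ * Units.inv_mul a
    have e1 : C.P (a : Γ(X.left, ⊤)) * C.M y₁ = C.w a * C.P (-(a : Γ(X.left, ⊤))) := by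
      rw [hy, Calc.w, C.P_neg]; group
    have e2 : C.w a = C.w 1 * (C.H a)⁻¹ := by rw [← (C.w_smul a 1).2, mul_one]
    have e3 := C.P_mul_of_conj (g := (t * t') ≫ i) (fun b => s.conj_P (t * t') b) (-(a : Γ(X.left, ⊤)))
    refine ⟨1, (GmPts.ptOfUnit a⁻¹ ≫ av) * (t * t'), gaPt ((↑(rt α (t * t'))⁻¹ : Γ(X.left, ⊤)) * -(a : Γ(X.left, ⊤)) + x'), ?_⟩
    rw [MonObj.one_comp, one_mul, MonObj.mul_comp (GmPts.ptOfUnit a⁻¹ ≫ av)]
    change _ = C.H a⁻¹ * _ * C.P _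
    rw [C.H_inv, C.P_add, e1, e2]
    calc (C.w 1)⁻¹ * (C.w 1 * (C.H a)⁻¹ * C.P (-(a : Γ(X.left, ⊤))) * ((t * t') ≫ i) * C.P x')
        = (C.H a)⁻¹ * (C.P (-(a : Γ(X.left, ⊤))) * ((t * t') ≫ i)) * C.P x' := by group
      _ = _ := by rw [e3]; group
  · left
    obtain ⟨u, hu⟩ := h
    refine ⟨gaPt (y₁ * ↑u⁻¹), GmPts.ptOfUnit u ≫ av * (t * t'),
      gaPt ((↑(rt α (t * t'))⁻¹ : Γ(X.left, ⊤)) * (x * ↑u⁻¹) + x'), ?_⟩
    rw [MonObj.mul_comp (GmPts.ptOfUnit u ≫ av)]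
    change _ = C.M _ * (C.H u * _) * C.P _
    rw [C.P_add, C.rule x y₁ u hu]
    have e3 := C.P_mul_of_conj (g := (t * t') ≫ i) (fun b => s.conj_P (t * t') b) (x * ↑u⁻¹)
    calc C.M (y₁ * ↑u⁻¹) * C.H u * C.P (x * ↑u⁻¹) * ((t * t') ≫ i) * C.P x'
        = C.M (y₁ * ↑u⁻¹) * C.H u * (C.P (x * ↑u⁻¹) * ((t * t') ≫ i)) * C.P x' := by group
      _ = _ := by rw [e3]; group

/-- Every geometric point lies in `Ω ∪ w Ω`. -/
theorem Sys.inCell_or (s : Sys i α pp pm av) [IsOpenImmersion (cellMap i pp pm).left] (hG : Red.IsReductive G)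
    {X : Over S} (g : X ⟶ G) (p : X.left) :
    ∃ (X' : Over S) (f : X' ⟶ X), (∀ z : X'.left, f.left z = p) ∧ Nonempty X'.left ∧
      (∀ m : ℕ, 0 < m → ∃ v : (Γ(X'.left, ⊤))ˣ, (v : Γ(X'.left, ⊤)) ^ m ≠ 1) ∧
      (InCell i pp pm (f ≫ g) ∨ InCell i pp pm (((s.calc' X').w 1)⁻¹ * (f ≫ g))) := by
  haveI := s.hi; haveI := s.hpph; haveI := s.hpmh
  obtain ⟨X₁, f, c, -, hs, -, hc, hd⟩ := exists_translate (i := i) (pp := pp) (pm := pm) hG ![g]
  obtain ⟨q, hq⟩ := f.left.surjective p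
  obtain ⟨X', e, he, hne, hfield, hv⟩ := exists_geom_point X₁ q
  refine ⟨X', e ≫ f, fun z => by rw [Over.comp_left, Scheme.Hom.comp_apply, he, hq], hne, hv, ?_⟩
  obtain ⟨y, t, x, hc⟩ := hc.comp e
  obtain ⟨y', t', x', hd⟩ := (hd 0).comp e
  set C := s.calc' X'
  have hd' : (e ≫ c) * ((e ≫ f) ≫ g) = (y' ≫ pm) * (t' ≫ i) * (x' ≫ pp) := by
    rw [← hd, MonObj.comp_mul, Category.assoc]; rfl
  have key : (e ≫ f) ≫ g = C.P (-Red.gaFn x) * (t⁻¹ ≫ i) * C.M (-Red.gaFn y + Red.gaFn y') * (t' ≫ i) *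
      C.P (Red.gaFn x') := by
    rw [C.P_neg, C.M_add, C.M_neg, ← s.calc'_P x rfl, ← s.calc'_M y rfl, ← s.calc'_M y' rfl,
      ← s.calc'_P x' rfl, GrpObj.inv_comp,
      show (e ≫ f) ≫ g = (e ≫ c)⁻¹ * ((e ≫ c) * ((e ≫ f) ≫ g)) by group, hd', hc]
    group
  rw [key]
  exact s.mul_cell_or hfield _ _ _ _ _

/-- A point commuting with a power of the coroot lies in the torus. -/
theorem Sys.torus_of_commute (s : Sys i α pp pm av) [IsOpenImmersion (cellMap i pp pm).left]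
    (hG : Red.IsReductive G) (hT : Red.IsTorus T)
    (hα : ∀ s : S, (Over.pullback (Red.geomPt s)).map α ≠ 1) {n : ℤ} (hn : n ≠ 0) {X : Over S} (g : X ⟶ G)
    (h : ∀ (X' : Over S) (f : X' ⟶ X) (v : (Γ(X'.left, ⊤))ˣ), Commute (f ≫ g) ((s.calc' X').H (v ^ n))) :
    ∃ t : X ⟶ T, t ≫ i = g := by
  haveI := s.hi; haveI := s.hα; haveI := s.hpph; haveI := s.hpmh; haveI := s.havh
  have hN : 0 < n.natAbs := Int.natAbs_pos.2 hn
  have hsign : ∀ {X' : Over S} (v : (Γ(X'.left, ⊤))ˣ), ∃ w : (Γ(X'.left, ⊤))ˣ, w ^ n = v ^ n.natAbs := by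
    intro X' v
    rcases Int.natAbs_eq n with hh | hh
    · exact ⟨v, by rw [← zpow_natCast, ← hh]⟩
    · exact ⟨v⁻¹, by rw [inv_zpow, ← zpow_neg, ← zpow_natCast]; congr 1; omega⟩
  have h' : ∀ (X' : Over S) (f : X' ⟶ X) (v : (Γ(X'.left, ⊤))ˣ),
      Commute (f ≫ g) ((s.calc' X').H (v ^ n.natAbs)) := fun X' f v => by
    obtain ⟨w, hw⟩ := hsign v
    exact hw ▸ h X' f w
  have hcell : InCell i pp pm g := by
    rw [inCell_iff]
    rintro _ ⟨p, rfl⟩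
    obtain ⟨X', f, hf, ⟨z⟩, hv, hg⟩ := s.inCell_or hG g p
    rcases hg with hg | ⟨y, t, x, hg⟩
    · rw [inCell_iff] at hg
      have e : (f ≫ g).left z = g.left p := (Scheme.Hom.comp_apply _ _ _).trans (congrArg _ (hf z))
      exact e ▸ hg ⟨z, rfl⟩
    exfalso
    set C := s.calc' X'
    obtain ⟨v, hv⟩ := hv (4 * n.natAbs) (by omega)
    set e := v ^ n.natAbs
    set c := (y ≫ pm) * (t ≫ i) * (x ≫ pp) with hc
    have hw : (C.w 1)⁻¹ * C.H e * C.w 1 = C.H e⁻¹ := by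
      have h0 := C.w_conj (g := C.H e) (a := e * e) (fun b => by rw [C.conj_P, Units.val_mul])
        (fun b => by rw [C.conj_M, mul_inv_rev, Units.val_mul]) 1
      rw [C.H_mul] at h0
      have h1 : C.w 1 * C.H e * (C.w 1)⁻¹ = (C.H e)⁻¹ := by rw [h0]; group
      rw [C.H_inv, ← h1]
      have hsq := C.w_sq (1 : (Γ(X'.left, ⊤))ˣ)
      have hcm : C.H (-1) * C.H e = C.H e * C.H (-1) := by rw [← C.H_mul, ← C.H_mul, mul_comm]
      rw [← hsq] at hcm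
      calc (C.w 1)⁻¹ * C.H e * C.w 1 = (C.w 1)⁻¹ * (C.H e * (C.w 1 * C.w 1)) * (C.w 1)⁻¹ := by group
        _ = C.w 1 * C.H e * (C.w 1)⁻¹ := by rw [← hcm]; group
    have hc2 : C.H e⁻¹ * c = c * C.H e := by
      rw [← hw, ← hg]
      calc (C.w 1)⁻¹ * C.H e * C.w 1 * ((C.w 1)⁻¹ * (f ≫ g)) = (C.w 1)⁻¹ * (C.H e * (f ≫ g)) := by group
        _ = _ := by rw [show C.H e * (f ≫ g) = (f ≫ g) * C.H e from (h' X' f v).eq.symm]; group
    let τ : X' ⟶ T := GmPts.ptOfUnit e⁻¹ ≫ av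
    have hτ : τ ≫ i = C.H e⁻¹ := rfl
    have hcc := conj_cell (fun X t x => s.hpp X t x) (fun X t y => s.hpm X t y) hT τ t (Red.gaFn y) (Red.gaFn x)
    rw [gaPt_gaFn, gaPt_gaFn, hτ, hc2] at hcc
    set y'' := gaPt ((↑(rt α τ)⁻¹ : Γ(X'.left, ⊤)) * Red.gaFn y)
    set x'' := gaPt ((rt α τ : Γ(X'.left, ⊤)) * Red.gaFn x)
    have h2 : (y ≫ pm) * ((t * (GmPts.ptOfUnit (e * e) ≫ av)) ≫ i) *
        (gaPt ((↑(rt α (GmPts.ptOfUnit (e * e) ≫ av))⁻¹ : Γ(X'.left, ⊤)) * Red.gaFn x) ≫ pp) =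
        (y'' ≫ pm) * (t ≫ i) * (x'' ≫ pp) := by
      rw [MonObj.mul_comp]
      have e3 := C.P_mul_of_conj (g := (GmPts.ptOfUnit (e * e) ≫ av) ≫ i) (fun b => s.conj_P _ b) (Red.gaFn x)
      change _ * ((t ≫ i) * C.H (e * e)) * C.P _ = _
      change C.P _ * C.H (e * e) = C.H (e * e) * C.P _ at e3
      rw [← hcc, C.H_inv, inv_inv, C.H_mul]
      calc (y ≫ pm) * ((t ≫ i) * (C.H e * C.H e)) * C.P ((↑(rt α (GmPts.ptOfUnit (e * e) ≫ av))⁻¹ : Γ(X'.left, ⊤)) * Red.gaFn x)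
          = (y ≫ pm) * (t ≫ i) * (C.H (e * e) * C.P ((↑(rt α (GmPts.ptOfUnit (e * e) ≫ av))⁻¹ : Γ(X'.left, ⊤)) * Red.gaFn x)) := by rw [C.H_mul]; group
        _ = (y ≫ pm) * (t ≫ i) * C.P (Red.gaFn x) * C.H (e * e) := by rw [← e3]; group
        _ = c * C.H e * C.H e := by rw [← s.calc'_P x rfl, C.H_mul, hc]; group
    obtain ⟨-, ht, -⟩ := cell_inj h2
    rw [mul_eq_left] at ht
    have hH : C.H (e * e) = 1 := by
      change (GmPts.ptOfUnit (e * e) ≫ av) ≫ i = 1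
      rw [ht, MonObj.one_comp]
    have h5 : C.P ((((e * e : (Γ(X'.left, ⊤))ˣ) : Γ(X'.left, ⊤)) * ↑(e * e)) * 1) = C.P 1 := by
      rw [← C.conj_P, hH]; group
    have h6 : (1 : X' ⟶ T) ≫ i = 1 := MonObj.one_comp i
    have h7 := cell_inj (i := i) (pp := pp) (pm := pm) (y := (1 : X' ⟶ Red.Ga S)) (y' := 1) (t := 1) (t' := 1)
      (x := gaPt ((((e * e : (Γ(X'.left, ⊤))ˣ) : Γ(X'.left, ⊤)) * ↑(e * e)) * 1)) (x' := gaPt 1)
      (congrArg (fun w => ((1 : X' ⟶ Red.Ga S) ≫ pm) * ((1 : X' ⟶ T) ≫ i) * w) h5)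
    have h4 : e * e * (e * e) = 1 := by
      ext
      have h8 := congrArg Red.gaFn h7.2.2
      rw [gaFn_gaPt, gaFn_gaPt, mul_one] at h8
      rw [Units.val_mul, h8, Units.val_one]
    refine hv ?_
    rw [← Units.val_pow_eq_pow_val, show v ^ (4 * n.natAbs) = e * e * (e * e) by
      simp only [e, ← pow_add]; congr 1; omega, h4, Units.val_one]
  obtain ⟨y, t, x, hg⟩ := hcell
  obtain ⟨X', f, t0, hf, hs, -, hu⟩ := exists_char_cover (i := i) (pp := pp) (pm := pm) hG hα X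
    (m := 2 * n.natAbs) (by omega)
  haveI := epi_of_flat_surjective f
  let e := rt α t0 ^ n.natAbs
  have hfix : ((GmPts.ptOfUnit e ≫ av) ≫ i) * (f ≫ g) = (f ≫ g) * ((GmPts.ptOfUnit e ≫ av) ≫ i) :=
    (h' X' f (rt α t0)).eq.symm
  rw [hg, MonObj.comp_mul, MonObj.comp_mul, ← Category.assoc f y, ← Category.assoc f t, ← Category.assoc f x] at hfix
  have hu' : IsUnit ((rt α (GmPts.ptOfUnit e ≫ av) : Γ(X'.left, ⊤)) - 1) := by
    rw [s.rt_av, show e * e = rt α t0 ^ (2 * n.natAbs) by simp only [e, ← pow_add]; congr 1; omega,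
      Units.val_pow_eq_pow_val]
    exact hu
  obtain ⟨h1, h2⟩ := torus_of_fixed (fun X t x => s.hpp X t x) (fun X t y => s.hpm X t y) hT _ (f ≫ t) (f ≫ y) (f ≫ x) hu' hfix
  rw [← MonObj.comp_one f, cancel_epi] at h1 h2
  exact ⟨t, by rw [hg, h1, h2, MonObj.one_comp, MonObj.one_comp, one_mul, mul_one]⟩

end Groth.Agent.RedR1
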